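import Cfsg.Agent.Mrg.Omega.OM.Lev.Uni
import Cfsg.Agent.Mrg.Omega.OM.Lev.Dich
import Cfsg.Agent.Mrg.Omega.OM.Lev.FixPt
import Cfsg.Agent.Mrg.Omega.OM.Lev.Nat
import Cfsg.Agent.Mrg.Omega.OM.Lev.GSym
import Cfsg.Agent.Mrg.Omega.OM.UniPlus
import Cfsg.Agent.Mrg.Omega.OM.Swap.Pair
import Cfsg.Agent.Mrg.Omega.OM.Swap.Gen.One
import Cfsg.Agent.Mrg.Omega.NO3S.Level.Fam
import Cfsg.Agent.Mrg.Omega.NO3S.Basic
import Cfsg.Agent.Mrg.Omega.Node.MulG
import Cfsg.Agent.Mrg.Omega.OM.Lev.Main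
import Cfsg.Agent.Mrg.Omega.OM.FourF.Mod
import Cfsg.Agent.Mrg.Omega.OM.SWQ.CaseTwoEnd
import Cfsg.Agent.Mrg.Omega.OM.FourF.OneF

section


/-!
# THEOREM SWQ over a general top level `K₀`: the ground frame and the pairs `(T, F)`

`LV S` : a level `K₀` of `S`; `ZT n = Ω₁Z(nxt S K₀)`, `BT n = C_S(ZT n)`; `Ln`, `Pair`, `Phi`, `exists_pair`, `exists_fam` as
in `OM/SwapL/{Frame, Pair, Off}.lean` (helper590), with `lev S n` replaced by `K₀` and `lev S (n + 1)` by `nxt S K₀`.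
The stages below `K₀` are all levels `D ≤ K₀`; a `Y` without stage (`Wrd n Y`) needs the sockets `QFix`, `QFam`; the
minimal parabolics which move `Ω₁Z(T)` are the socket `BM`.
-/

set_option autoImplicit false
set_option linter.unusedSectionVars false

namespace Cfsg.Agent.Omega.OM.SWT

open Subgroup Cfsg Cfsg.Agent.ZN.ChoiceBase Cfsg.Agent.ZN.ChoiceSit
open Cfsg.Agent.ZN (jj zj bau zc zl o2)
open Cfsg.Agent.MinSimple.MinParabolic (IsMinPar)
open Cfsg.Agent.MinSimple.VModule (oddGen oddGen_le)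
open Cfsg.Agent.Omega.NO3S (HypN)
open Cfsg.Agent.Omega.NO3S.Level (Lev nxt BO)
open Cfsg.Agent.Omega.OM.LevD (LB K0)
open Cfsg.Agent.Omega.OM.Lev.Uni (FrL)
open Cfsg.Agent.Omega.OM.UniPlus (NB)
open Cfsg.Agent.Omega.OM.WeakCl (WC)
open Cfsg.Agent.Omega.OM.Swap.Fam (Fm BF fm_AA fm_best)

universe u

variable {G : Type u} [Group G] [Finite G]

/-- A level of `S`. -/
structure LV (S : Sylow 2 G) where
  K : Subgroup G
  lev : Lev (S : Subgroup G) K

variable {S : Sylow 2 G}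

theorem LV.wc (n : LV S) : NO3b.Wc.WC (S : Subgroup G) n.K := Lev.Wc.wc_Lev n.lev

/-- `nxt S K` -/
def LV.nx (n : LV S) : Subgroup G := nxt (S : Subgroup G) n.K

/-- `Z_J = Ω₁Z(nxt S K)` -/
noncomputable def ZT (n : LV S) : Subgroup G := zc (nxt (S : Subgroup G) n.K)

/-- `B = C_S(Z_J)` -/
noncomputable def BT (n : LV S) : Subgroup G := (S : Subgroup G) ⊓ centralizer (zc (nxt (S : Subgroup G) n.K) : Set G)

/-- The ground frame at the level `n`. -/
structure Ln {ι : Type} (P : Subgroup G) (n : LV S) (L W Z C A : ι → Subgroup G) (q : ℕ) : Prop where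
  hyp : HypN S P
  le : n.K ≤ o2 P
  fr : FrL (BT n) (o2 P) (zl (S : Subgroup G) P) (zc n.K) (ZT n) L W Z C A q
  two : ∀ i : ι, ∃ j, j ≠ i

theorem lb (n : LV S) : LB S n.nx (BT n) (ZT n) := Node.MulG.lb_nxt n.wc

theorem wc (n : LV S) : WC (BT n) := Lev.Wc.wc_cent_Lev n.lev.next rfl

/-- `N_G(B) ≤ N_G(K)` -/
theorem norm_K (n : LV S) : normalizer (BT n : Set G) ≤ normalizer (n.K : Set G) := Lev.Wc.norm_B_Lev n.lev rfl

theorem LV.zc_le {D n : LV S} (h : D.K ≤ n.K) : zc n.K ≤ zc D.K := D.lev.zc_le_zc h n.lev.le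

/-- `nxt` is monotone. -/
theorem LV.nx_mono {D n : LV S} (h : D.K ≤ n.K) : D.nx ≤ n.nx := by
  have hz := LV.zc_le h
  refine sup_le ((inf_le_inf_left _ (centralizer_le hz)).trans (NO3S.Level.inf_centralizer_le_nxt _ _))
    (sSup_le fun A hA => NO3S.Level.BO.le_nxt ⟨hA.1, ?_⟩)
  have hb := NO3S.Level.bfam_BO (S := (S : Subgroup G)) (K := D.K) (U := zc n.K) (L := ⊥) hz bot_le
  exact ⟨hb.elem A hA, fun Y h1 h2 => hb.best A hA Y h2 h1⟩

/-- a level of `S` is a level of every 2-group over it. -/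
theorem LV.levT (n : LV S) {T : Subgroup G} (hT : IsPGroup 2 T) (hle : n.K ≤ T) : Lev T n.K where
  le := hle
  jjle := by
    rw [MinSimple.EmptyTI.jj_eq S hT (n.lev.jjle.trans hle)]
    exact n.lev.jjle
  norm := fun _ h1 h2 _ hg => mem_normalizer_iff_cj.2 (LevD.norm_of_wc n.wc (hT.to_le h2) h1 hg)

theorem LV.nxtT (n : LV S) {T : Subgroup G} (hT : IsPGroup 2 T) (hle : n.nx ≤ T) : nxt T n.K = n.nx :=
  LevD.nxt_eq n.wc (NO3S.Level.wc_nxt n.wc) hT hle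

theorem LV.K_le_nx (n : LV S) : n.K ≤ n.nx := NO3S.Level.le_nxt n.lev.le

section line

variable {ι : Type} {P : Subgroup G} {n : LV S} {L W Z C A : ι → Subgroup G} {q : ℕ}

variable [Finite ι]

/-- **(U1)** -/
theorem Ln.norm (h : Ln P n L W Z C A q) {g : G} (hg : g ∈ normalizer (BT n : Set G)) :
    cj g (zl (S : Subgroup G) P) = zl (S : Subgroup G) P ∧
      ∀ i, ∃ j, cj g (Z i) = Z j ∧ cj g (W i) ≤ W j ⊔ ZT n :=
  h.fr.norm_of hg (NO3S.Level.normalizer_le_zc _ (norm_K n hg))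

theorem Ln.norm_le (h : Ln P n L W Z C A q) :
    normalizer (BT n : Set G) ≤ normalizer (zl (S : Subgroup G) P : Set G) := fun g hg => by
  rw [mem_normalizer_iff_cj]
  exact (h.norm hg).1

end line

/-! ### Pairs -/

/-- **(F1)** a conjugate of `B` inside `M` is a conjugate by an element of `M`. -/
theorem mem_of_cj_B_le (n : LV S) {M : Subgroup G} (hSM : (S : Subgroup G) ≤ M)
    (hN : normalizer (BT n : Set G) ≤ M) {g : G} (h : cj g (BT n) ≤ M) : g ∈ M := by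
  have hS : Syl (S : Subgroup G) M := ⟨hSM, S.isPGroup', fun Q _ hQ hle => S.is_maximal' hQ hle⟩
  have h2 : IsPGroup 2 (cj g (BT n)) := isPGroup_cj g (lb n).Bp
  obtain ⟨T, hT, hle⟩ := exists_syl h2 h
  obtain ⟨m, hm, rfl⟩ := syl_conj hS hT
  have h3 : cj (m⁻¹ * g) (BT n) ≤ (S : Subgroup G) := by
    have := cj_mono m⁻¹ hle
    rwa [cj_inv_cj, cj_cj] at this
  have h4 := wc n _ S.isPGroup' (lb n).BS _ h3
  have h5 : m⁻¹ * g ∈ M := hN (mem_normalizer_iff_cj.2 h4)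
  have h6 := mul_mem hm h5
  rwa [mul_inv_cancel_left] at h6

/-- The stages of `Y` below `K₀` are void : `J(S) ≤ O₂(Y)`, `K₀ ≰ O₂(Y)`, and `nxt S D ≤ O₂(Y)` for every level `D ≤ K₀`
of `S` in `O₂(Y)`. -/
structure Wrd (n : LV S) (Y : Subgroup G) : Prop where
  jj : jj (S : Subgroup G) ≤ o2 Y
  nK : ¬ n.K ≤ o2 Y
  nxt : ∀ D : LV S, D.K ≤ n.K → D.K ≤ o2 Y → D.nx ≤ o2 Y

/-- A quiet minimal parabolic `Y ≤ H` over a 2-group `T ≥ B`, not contained in `M`. -/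
structure Quiet (n : LV S) (M H T Y : Subgroup G) : Prop where
  syl : Syl T Y
  BT : BT n ≤ T
  min : IsMinPar T Y
  char2 : Y ⊓ centralizer (o2 Y : Set G) ≤ o2 Y
  le : Y ≤ H
  nM : ¬ Y ≤ M
  nx : ¬ n.nx ≤ o2 Y
  quiet : Y ≤ centralizer (zc T : Set G)

/-- The pairs `(T, F)` of STEP 0. -/
structure Pair (P : Subgroup G) (n : LV S) (M H T F : Subgroup G) : Prop where
  syl : Syl T F
  BT : BT n ≤ T
  nM : ¬ F ≤ M
  min : ∀ K : Subgroup G, T ≤ K → K < F → K ≤ M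
  VO : zl (S : Subgroup G) P ≤ o2 F
  fix : ZT n ⊓ centralizer (o2 F : Set G) ≤ centralizer (F : Set G)
  inQ : ∃ T₀ Y : Subgroup G, Quiet n M H T₀ Y ∧ F ≤ Y ∧ o2 Y ≤ o2 F

theorem Pair.le {P : Subgroup G} {n : LV S} {M H T F : Subgroup G} (h : Pair P n M H T F) : F ≤ H := by
  obtain ⟨_, _, h1, h2, -⟩ := h.inQ
  exact h2.trans h1.le

/-- Minimal parabolics `Y ≤ H` over `T ≥ B` which move `Ω₁Z(T)` lie in `M`. -/
def BM (n : LV S) (M H : Subgroup G) : Prop :=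
  ∀ T Y : Subgroup G, Syl T Y → BT n ≤ T → IsMinPar T Y →
    Y ⊓ centralizer (o2 Y : Set G) ≤ o2 Y → Y ≤ H → ¬ n.nx ≤ o2 Y →
    ¬ Y ≤ centralizer (zc T : Set G) → Y ≤ M

/-- Fixed points do not lift, for the quiet `Y ≤ H` without stage. -/
def QFix (n : LV S) (M H : Subgroup G) : Prop :=
  ∀ T Y : Subgroup G, Quiet n M H T Y → Wrd n Y → ZT n ⊓ zc (o2 Y) ≤ centralizer (oddGen Y : Set G)

/-- **The stage of `Y`.** -/
theorem stage (n : LV S) {Y : Subgroup G} (hn : ¬ n.nx ≤ o2 Y) (hw : ¬ Wrd n Y) :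
    ¬ jj (S : Subgroup G) ≤ o2 Y ∨ ∃ D : LV S, D.K ≤ n.K ∧ D.K ≤ o2 Y ∧ ¬ D.nx ≤ o2 Y := by
  by_contra hcon
  push Not at hcon
  obtain ⟨h1, h2⟩ := hcon
  exact hw ⟨h1, fun h3 => hn (h2 n le_rfl h3), h2⟩

theorem fixPt_of (n : LV S) {T Y : Subgroup G} (hT : Syl T Y) (hle : n.nx ≤ T) (hmin : IsMinPar T Y)
    (hn : ¬ n.nx ≤ o2 Y) (hz : Y ≤ centralizer (zc T : Set G)) (hw : ¬ Wrd n Y) :
    zc (o2 Y) ≤ centralizer (oddGen Y : Set G) := by
  rcases stage n hn hw with h1 | ⟨D, h1, h2, h3⟩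
  · refine FixPt.fixPt FF.Glob.aStmt hT hmin ?_ hz
    rwa [MinSimple.EmptyTI.jj_eq S hT.2.1 ((n.lev.jjle.trans n.K_le_nx).trans hle)]
  · have h4 : D.nx ≤ T := (LV.nx_mono h1).trans hle
    refine LevD.fixPt_nxt hT hmin (D.levT hT.2.1 (D.K_le_nx.trans h4)) h2 ?_ hz
    rwa [D.nxtT hT.2.1 h4]

/-- A quiet minimal parabolic `Y ≤ H` which is not contained in `M`. -/
theorem genM' {K B ZJ H : Subgroup G} (hB : LB S K B ZJ) {M T : Subgroup G} (hD : centralizer (ZJ : Set G) ≤ M)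
    (hN : normalizer (B : Set G) ≤ M) (hT : Syl T H) (hBT : B ≤ T)
    (hblk : ∀ Y : Subgroup G, IsMinPar T Y → Y ≤ H → ¬ K ≤ o2 Y → ¬ Y ≤ centralizer (zc T : Set G) → Y ≤ M)
    (hHM : ¬ H ≤ M) :
    ∃ Y : Subgroup G, IsMinPar T Y ∧ Y ≤ H ∧ ¬ K ≤ o2 Y ∧ Y ≤ centralizer (zc T : Set G) ∧ ¬ Y ≤ M := by
  have hK : K0 ZJ (fun _ _ => False) ≤ M := sup_le hD (iSup_le fun i => i.2.elim)
  have hZM := LevD.norm_le_M hB hK hN
  have hTN : normalizer (T : Set G) ≤ M := (hB.nrm T hT.2.1 (hB.KB.trans hBT)).trans hZM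
  by_contra hcon
  push Not at hcon
  apply hHM
  refine MinSimple.MinParabolic.le_of_forall hT.1 (inf_le_right.trans hTN) fun Y hY hYH => ?_
  by_cases h1 : K ≤ o2 Y
  · exact (le_normalizer_o2 Y).trans ((hB.nrm _ (isPGroup_o2 Y) h1).trans hZM)
  by_cases h2 : Y ≤ centralizer (zc T : Set G)
  · exact hcon Y hY hYH h1 h2
  · exact hblk Y hY hYH h1 h2

/-- the indices fixed by `T` -/
def Phi {ι : Type} (Z : ι → Subgroup G) (T : Subgroup G) : Set ι := {i | ∀ t ∈ T, cj t (Z i) = Z i}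

section line

variable {ι : Type} [Finite ι] {P : Subgroup G} {n : LV S} {L W Z C A : ι → Subgroup G} {q : ℕ}

/-- a 2-group over `B` normalises `V`. -/
theorem two_norm (h : Ln P n L W Z C A q) {T : Subgroup G} (hT : IsPGroup 2 T)
    (hB : BT n ≤ T) : T ≤ normalizer (zl (S : Subgroup G) P : Set G) :=
  ((lb n).two_le hT hB).trans h.norm_le

omit [Finite ι] in
theorem V_le_B (h : Ln P n L W Z C A q) : zl (S : Subgroup G) P ≤ BT n :=
  h.fr.VQ.trans h.fr.QB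

/-- `V ≤ O₂(Y)` if `Y` centralises `Ω₁(Z(T))`, `B ≤ T ≤ Y`. -/
theorem V_le_o2 (h : Ln P n L W Z C A q) {T Y : Subgroup G} (hT : IsPGroup 2 T)
    (hB : BT n ≤ T) (hTY : T ≤ Y) (hY : Y ≤ centralizer (zc T : Set G)) :
    zl (S : Subgroup G) P ≤ o2 Y := by
  obtain ⟨S', hS'⟩ := hT.exists_le_sylow
  obtain ⟨g, hg⟩ := MulAction.exists_smul_eq G S S'
  have hg2 : (S' : Subgroup G) = cj g (S : Subgroup G) := by
    rw [← hg, Sylow.coe_subgroup_smul]
    rfl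
  have hgN : g ∈ normalizer (BT n : Set G) := by
    have h1 : cj g⁻¹ (BT n) ≤ (S : Subgroup G) := by
      have := cj_mono g⁻¹ ((hB.trans hS').trans hg2.le)
      rwa [cj_inv_cj] at this
    have h2 := wc n _ S.isPGroup' (lb n).BS _ h1
    have h3 := inv_mem (mem_normalizer_iff_cj.2 h2)
    rwa [inv_inv] at h3
  have h3 : zc (S' : Subgroup G) ≤ zc T := by
    intro z hz
    have h4 : z ∈ T := by
      rw [hg2, NO3S.Level.zc_cj] at hz
      have h5 : zc (S : Subgroup G) ≤ ZT n := n.lev.next.zc_le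
      have h6 := cj_mono g h5 hz
      rw [cj_eq_of_mem_normalizer ((lb n).norm_B_le hgN)] at h6
      exact hB ((lb n).ZB h6)
    obtain ⟨h5, h6, h7⟩ := mem_zc.1 hz
    exact mem_zc.2 ⟨h4, h6, fun y hy => h7 y (hS' hy)⟩
  have h4 : Y ≤ centralizer (zc (S' : Subgroup G) : Set G) := hY.trans (centralizer_le h3)
  have h5 : zl (S : Subgroup G) P ≤ o2 (centralizer (zc (S' : Subgroup G) : Set G)) := by
    have h6 := cj_mono g (h.hyp.low P h.hyp.star)
    rw [(h.norm hgN).1, ← pCore_cj, cj_centralizer, ← LemmaK.Main.zc_cj, ← hg2] at h6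
    exact h6
  have h6 : zl (S : Subgroup G) P ≤ o2 (centralizer (zc (S' : Subgroup G) : Set G)) ⊓ Y :=
    le_inf h5 (((V_le_B h).trans hB).trans hTY)
  refine h6.trans (le_o2 ((isPGroup_o2 _).to_le inf_le_left) inf_le_right ?_)
  intro y hy
  rw [mem_normalizer_iff_cj, cj_inf, cj_eq_of_mem_normalizer (le_normalizer_o2 _ (h4 hy)),
    cj_eq_of_mem_normalizer (le_normalizer hy)]

/-- **Existence of pairs.** -/
theorem exists_pair (h : Ln P n L W Z C A q) {M H : Subgroup G} (hBM : BM n M H) (hQ : QFix n M H)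
    (hD : centralizer (ZT n : Set G) ≤ M) (hN : normalizer (BT n : Set G) ≤ M)
    (hB : BT n ≤ H) (hc : H ⊓ centralizer (o2 H : Set G) ≤ o2 H) (hM : ¬ H ≤ M) :
    ∃ T F : Subgroup G, Pair P n M H T F := by
  have : Fact (Nat.Prime 2) := ⟨Nat.prime_two⟩
  obtain ⟨T₀, hT₀, hBT₀⟩ := exists_syl (lb n).Bp hB
  have hsylY : ∀ Y : Subgroup G, IsMinPar T₀ Y → Y ≤ H → Syl T₀ Y := fun Y hY hYH =>
    ⟨hY.le, hT₀.2.1, fun Q hQ h2 hTQ => hT₀.2.2 Q (hQ.trans hYH) h2 hTQ⟩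
  have hcY' : ∀ Y : Subgroup G, IsMinPar T₀ Y → Y ≤ H → Y ⊓ centralizer (o2 Y : Set G) ≤ o2 Y := by
    intro Y hY hYH
    have h4 : o2 H ≤ o2 Y :=
      le_o2 (isPGroup_o2 H) ((o2_le_syl hT₀).trans hY.le) (hYH.trans (le_normalizer_o2 H))
    rintro x ⟨hx, hxc⟩
    exact h4 (hc ⟨hYH hx, centralizer_le (by exact_mod_cast h4) hxc⟩)
  have hKT : n.nx ≤ T₀ := (lb n).KB.trans hBT₀
  have hfix : ∀ Y : Subgroup G, IsMinPar T₀ Y → Y ≤ H → ¬ Y ≤ M → ¬ n.nx ≤ o2 Y →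
      Y ≤ centralizer (zc T₀ : Set G) → ZT n ⊓ zc (o2 Y) ≤ centralizer (oddGen Y : Set G) := by
    intro Y hY hYH hYM hYK hYc
    by_cases hw : Wrd n Y
    · exact hQ T₀ Y ⟨hsylY Y hY hYH, hBT₀, hY, hcY' Y hY hYH, hYH, hYM, hYK, hYc⟩ hw
    · exact inf_le_right.trans (fixPt_of n (hsylY Y hY hYH) hKT hY hYK hYc hw)
  -- the minimal parabolic `Y`
  obtain ⟨Y, hYm, hYH, hYK, hYc, hYM⟩ := genM' (lb n) hD hN hT₀ hBT₀
    (fun Y hY hYH => hBM T₀ Y (hsylY Y hY hYH) hBT₀ hY (hcY' Y hY hYH) hYH) hM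
  have hTM : T₀ ≤ M := ((lb n).two_le hT₀.2.1 hBT₀).trans hN
  have hTY : Syl T₀ Y := hsylY Y hYm hYH
  have hcY := hcY' Y hYm hYH
  have hVY : zl (S : Subgroup G) P ≤ o2 Y := V_le_o2 h hT₀.2.1 hBT₀ hYm.le hYc
  -- `Y₁ = O²(Y) O₂(Y) B`
  set Y₁ : Subgroup G := oddGen Y ⊔ (o2 Y ⊔ BT n) with hY₁
  have hY₁Y : Y₁ ≤ Y := sup_le (oddGen_le Y) (sup_le (o2_le Y) (hBT₀.trans hYm.le))
  have hOB : IsPGroup 2 (o2 Y ⊔ BT n : Subgroup G) :=
    hT₀.2.1.to_le (sup_le (o2_le_syl hTY) hBT₀)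
  obtain ⟨T, hT, hOT⟩ := exists_syl hOB (le_sup_right : o2 Y ⊔ BT n ≤ Y₁)
  have hY₁M : ¬ Y₁ ≤ M := by
    intro hle
    apply hYM
    rw [← Dich.oddGen_sup_syl hTY]
    exact sup_le (le_sup_left.trans hle) hTM
  obtain ⟨F, hF⟩ := (Set.toFinite {K : Subgroup G | T ≤ K ∧ K ≤ Y₁ ∧ ¬ K ≤ M}).exists_minimal
    ⟨Y₁, hT.1, le_rfl, hY₁M⟩
  obtain ⟨hTF, hFY₁, hFM⟩ := hF.prop
  have hFY : F ≤ Y := hFY₁.trans hY₁Y
  have hsyl : Syl T F := ⟨hTF, hT.2.1, fun Q hQ h2 hle => hT.2.2 Q (hQ.trans hFY₁) h2 hle⟩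
  have hBT : BT n ≤ T := le_sup_right.trans hOT
  have hOF : o2 Y ≤ o2 F :=
    le_o2 (isPGroup_o2 Y) ((le_sup_left.trans hOT).trans hTF) (hFY.trans (le_normalizer_o2 Y))
  refine ⟨T, F, ⟨hsyl, hBT, hFM, fun K hTK hKF => ?_, hVY.trans hOF, ?_,
    T₀, Y, ⟨hTY, hBT₀, hYm, hcY, hYH, hYM, hYK, hYc⟩, hFY, hOF⟩⟩
  · by_contra hKM
    exact hKF.not_ge (hF.le_of_le ⟨hTK, hKF.le.trans hFY₁, hKM⟩ hKF.le)
  · rintro z ⟨hz, hzc⟩
    have hzB : z ∈ BT n := (lb n).ZB hz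
    have hzO : ∀ y ∈ o2 Y, y * z = z * y := fun y hy => mem_centralizer_iff.1 hzc y (hOF hy)
    have hz1 : z ∈ zc (o2 Y) := by
      refine mem_zc.2 ⟨hcY ⟨hYm.le (hBT₀ hzB), mem_centralizer_iff.2 hzO⟩, (lb n).sq z hz, hzO⟩
    have hz2 : z ∈ centralizer (oddGen Y : Set G) := hfix Y hYm hYH hYM hYK hYc ⟨hz, hz1⟩
    have hle : Y₁ ≤ centralizer ({z} : Set G) := by
      refine sup_le (fun y hy => ?_) (sup_le (fun y hy => ?_) fun y hy => ?_) <;>
        rw [mem_centralizer_singleton_iff]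
      · exact mem_centralizer_iff.1 hz2 y hy
      · exact hzO y hy
      · exact (mem_centralizer_iff.1 ((lb n).Bc hy) z hz).symm
    rw [mem_centralizer_iff]
    intro y hy
    exact mem_centralizer_singleton_iff.1 (hle (hFY₁ hy))

end line

/-! ### The family of offenders of a pair -/

section fam

variable {ι : Type} {P : Subgroup G} {n : LV S} {L W Z C A : ι → Subgroup G} {q : ℕ}

/-- `F` has a family of offenders with a member in `T` which is not in `O₂(F)`; the members in `T` lie in `B`, and they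
centralise `V` or are best offenders on `Ω₁Z(K₀)`. -/
def FamF (P : Subgroup G) (n : LV S) (T F : Subgroup G) : Prop :=
  ∃ 𝓐 : Set (Subgroup G),
    (∀ Λ : Subgroup G, IsElementaryAbelian 2 Λ → Λ ≤ F → F ≤ normalizer (Λ : Set G) →
      Λ ≤ NoFF.Basic.V (zl (S : Subgroup G) P) F → Fm F Λ 𝓐) ∧
    (∃ X ∈ 𝓐, X ≤ T ∧ ¬ X ≤ o2 F) ∧
    ∀ X ∈ 𝓐, X ≤ T → X ≤ BT n ∧
      ((∀ a ∈ X, ∀ v ∈ zl (S : Subgroup G) P, a * v = v * a) ∨ Lev.Uni.Best (zc n.K) X)

/-- the family, for the pairs without stage -/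
def QFam (P : Subgroup G) (n : LV S) (M H : Subgroup G) : Prop :=
  ∀ T F : Subgroup G, Pair P n M H T F → Wrd n F → FamF P n T F

/-- members of lower levels centralise `V` -/
theorem comm_V (h : Ln P n L W Z C A q) {a v : G} (ha : a ∈ n.K)
    (hv : v ∈ zl (S : Subgroup G) P) : a * v = v * a := h.fr.cQ (h.le ha) hv

theorem zc_elab (K : Subgroup G) : IsElementaryAbelian 2 (zc K) :=
  ⟨⟨⟨fun a b => Subtype.ext ((mem_zc.1 b.2).2.2 _ (mem_zc.1 a.2).1)⟩⟩, fun a ha => (mem_zc.1 ha).2.1⟩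

theorem V_le_X (h : Ln P n L W Z C A q) {D : LV S} (hD : D.K ≤ n.K) :
    zl (S : Subgroup G) P ≤ zc D.K := h.fr.VX.trans (LV.zc_le hD)

theorem Pair.nKO {M H T F : Subgroup G} (hp : Pair P n M H T F)
    (hZM : normalizer (ZT n : Set G) ≤ M) : ¬ n.nx ≤ o2 F := fun hle =>
  hp.nM ((le_normalizer_o2 F).trans (((lb n).nrm _ (isPGroup_o2 F) hle).trans hZM))

theorem Pair.minPar {M H T F : Subgroup G} (hp : Pair P n M H T F)
    (hZM : normalizer (ZT n : Set G) ≤ M) : IsMinPar T F := by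
  refine ⟨hp.syl.1, fun hle => ?_, F ⊓ M, lt_of_le_of_ne inf_le_left fun e => hp.nM (inf_eq_left.1 e),
    fun K hTK hKF => le_inf hKF.le (hp.min K hTK hKF)⟩
  apply hp.nKO hZM
  exact ((lb n).KB.trans hp.BT).trans (le_o2 hp.syl.2.1 hp.syl.1 hle)

/-- The family of offenders. -/
theorem exists_fam (h : Ln P n L W Z C A q) {M H T F : Subgroup G} (hp : Pair P n M H T F)
    (hQ : QFam P n M H)
    (hD : centralizer (ZT n : Set G) ≤ M) (hTM : T ≤ M)
    (hZM : normalizer (ZT n : Set G) ≤ M) : FamF P n T F := by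
  by_cases hw : Wrd n F
  · exact hQ T F hp hw
  have hT2 := hp.syl.2.1
  have hKT : n.nx ≤ T := (lb n).KB.trans hp.BT
  have h0T : jj (S : Subgroup G) ≤ T := (n.lev.jjle.trans n.K_le_nx).trans hKT
  rcases stage n (hp.nKO hZM) hw with hJ | ⟨D, hs, hlow, hnle⟩
  · -- stage `-1`
    have hjT : jj T = jj (S : Subgroup G) := MinSimple.EmptyTI.jj_eq S hT2 h0T
    refine ⟨AA F, fun Λ hΛ hΛF hn _ => fm_AA hΛ hΛF hn, ?_, fun X hX hXT => ?_⟩
    · by_contra hcon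
      push Not at hcon
      apply hJ
      rw [← hjT, Cfsg.Agent.ZN.ChoiceBase.jj_eq]
      exact sSup_le fun X hX => hcon X (Swap.AA_of_syl hp.syl hX) hX.2.1
    · have h1 : X ≤ jj (S : Subgroup G) := by
        have := le_jj (Swap.AA_of_le hX hXT hp.syl.1)
        rwa [hjT] at this
      have h2 : X ≤ n.K := h1.trans n.lev.jjle
      exact ⟨(h2.trans n.K_le_nx).trans (lb n).KB, Or.inl fun _ ha _ hv => comm_V h (h2 ha) hv⟩
  · -- a level `D ≤ K₀`
    have hX := zc_elab D.K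
    have hnx : D.nx ≤ T := (LV.nx_mono hs).trans hKT
    have hFN : F ≤ normalizer (zc D.K : Set G) :=
      ((le_normalizer_o2 F).trans ((D.levT hT2 (D.K_le_nx.trans hnx)).norm _ hlow (o2_le_syl hp.syl))).trans
        (NO3S.Level.normalizer_le_zc _)
    have hVX := V_le_X h hs
    refine ⟨BF F (zc D.K), fun Λ hΛ hΛF hn hle => fm_best hX hFN ?_ hn, ?_, fun X hXA hXT => ?_⟩
    · refine hle.trans (NoFF.Basic.V_le fun f hf => ?_)
      have h1 := cj_mono f hVX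
      rwa [cj_eq_of_mem_normalizer (hFN hf)] at h1
    · by_contra hcon
      push Not at hcon
      apply hnle
      rw [← D.nxtT hT2 hnx]
      have : Fact (Nat.Prime 2) := ⟨Nat.prime_two⟩
      have hNn : F ≤ normalizer ((F ⊓ centralizer (zc D.K : Set G) : Subgroup G) : Set G) := by
        intro f hf
        rw [mem_normalizer_iff_cj, cj_inf, cj_centralizer, cj_eq_of_mem_normalizer (hFN hf),
          cj_eq_of_mem_normalizer (le_normalizer hf)]
      refine sup_le ?_ (sSup_le fun X hX' => hcon X ⟨hX'.1.trans hp.syl.1, hT2.to_le hX'.1, hX'.2⟩ hX'.1)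
      rcases (hp.minPar hZM).sup_eq_or_inf_le (p := 2) hT2 (syl_not_dvd hp.syl)
        (N := F ⊓ centralizer (zc D.K : Set G)) inf_le_left hNn with h1 | h1
      · exfalso
        apply hp.nM
        rw [← h1]
        refine sup_le ((inf_le_right.trans (centralizer_le ?_)).trans hD) hTM
        exact_mod_cast h.fr.ZJV.trans hVX
      · refine le_trans (fun x hx => ?_) h1
        exact ⟨hx.1, hp.syl.1 hx.1, hx.2⟩
    · have hXD : X ∈ BO T D.K := ⟨hXT, hXA.2.2⟩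
      have h1 : X ≤ D.nx := by
        rw [← D.nxtT hT2 hnx]
        exact NO3S.Level.BO.le_nxt hXD
      refine ⟨(h1.trans (LV.nx_mono hs)).trans (lb n).KB, Or.inr fun F' h2 h3 => ?_⟩
      exact (NO3S.Level.bfam_BO (L := ⊥) (LV.zc_le hs) bot_le).best X hXD F' h2 h3

end fam

end Cfsg.Agent.Omega.OM.SWT

end

section


/-!
# THEOREM SWQ (#21705) over a general top level: the ground frame with coordinates, any `q`
(port of `OM/SWQ/Dt.lean`)

* `Dt P n M L Z A` : `SwapL.Ln`, `Bg` and the coordinates of `NatC`; `exists_dt`;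
* `Dt.cd`, `Dt.nm`, `Dt.exists_md` : the coordinates are `YThm.Cd`, `FourF.MD`;
* `Dt.cover`, `Dt.conj_ZJ` : an element of `⟨W i : i ∈ r⟩` is conjugate under `⟨L i : i ∈ r⟩` to an element of `Z_J`.
-/

set_option autoImplicit false
set_option linter.unusedSectionVars false

namespace Cfsg.Agent.Omega.OM.SWT

open Subgroup Cfsg Cfsg.Agent.ZN.ChoiceBase Cfsg.Agent.ZN.ChoiceSit
open Cfsg.Agent.ZN (jj zj bau zc zl o2)
open Cfsg.Agent.Lib.SL2Mat Cfsg.Agent.Omega.NatPair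
open Cfsg.Agent.Omega.FFThm (NatK NatKM ActsSL)
open Cfsg.Agent.Omega.FrameFF (cv)
open Cfsg.Agent.Omega.NO3S (HypN)
open Cfsg.Agent.Omega.NO3S.OneLine (NatC)
open Cfsg.Agent.Omega.NO3S.Level (lev)
open Cfsg.Agent.Omega.NO3S.EThree.Frame (Bg)
open Cfsg.Agent.Omega.OM.Lev.Nat
open Cfsg.Agent.Omega.OM.SWT (Ln BT ZT lb)
open Cfsg.Agent.Omega.OM.YThm

universe u

variable {G : Type u} [Group G] [Finite G]

/-- The ground frame at stage `n`, with coordinates. -/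
structure Dt {F : Type} [Field F] {S : Sylow 2 G} (P : Subgroup G) (n : LV S) {k : ℕ}
    (M : NatC F (S : Subgroup G) P (zl (S : Subgroup G) P) (cv (S : Subgroup G) P) k)
    (L Z A : Fin k → Subgroup G) : Prop where
  ln : Ln P n L (Wn M) Z (Cn M) A (Nat.card F)
  bg : Bg S P (BT n) (ZT n) L (Wn M) Z (Cn M) (Nat.card F)
  LX : ∀ i, L i ≤ Xn M i
  acts : ∀ i A', ∃ l ∈ L i, ∃ A'', M.Acts l A'' ∧ A'' i = A'
  memZ : ∀ i v, v ∈ Z i ↔ v ∈ Wn M i ∧ M.nat.e v i 1 = 0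
  memJ : ∀ v, v ∈ ZT n ↔ v ∈ zl (S : Subgroup G) P ∧ ∀ i, M.nat.e v i 1 = 0

variable {S : Sylow 2 G} {P : Subgroup G} {n : LV S} {F : Type} [Field F] {k : ℕ}

theorem exists_dt [Finite F] [CharP F 2] (h : HypN S P) (hn : n.K ≤ o2 P)
    (hJ : ∃ A ∈ NO3S.Level.BO (S : Subgroup G) n.K, ¬ A ≤ o2 P) (hk : 2 ≤ k)
    (N : NatKM F (S : Subgroup G) P (zl (S : Subgroup G) P) (cv (S : Subgroup G) P) k) :
    ∃ (M : NatC F (S : Subgroup G) P (zl (S : Subgroup G) P) (cv (S : Subgroup G) P) k)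
      (L Z A : Fin k → Subgroup G), M.nat = N.toNatK ∧ Dt P n M L Z A := by
  obtain ⟨M, L, Z, A, e, hFr, hB, -, h1, h2, h3, h4⟩ := Lev.Main.bg_K h n.lev hn hJ hk N rfl
  exact ⟨M, L, Z, A, e, ⟨h, hn, hFr, hB.two⟩, hB, h1, h2, h3, h4⟩

variable {M : NatC F (S : Subgroup G) P (zl (S : Subgroup G) P) (cv (S : Subgroup G) P) k}
  {L Z A : Fin k → Subgroup G} (D : Dt P n M L Z A)

include D

namespace Dt

theorem SP : (S : Subgroup G) ≤ P := D.ln.hyp.toHyp.syl.1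

theorem syl : Syl (S : Subgroup G) P := D.ln.hyp.toHyp.syl

theorem LP (i : Fin k) : L i ≤ P := fun _ hl => (D.LX i hl).1

theorem k_pos : 0 < k := M.pos

theorem inj {v w : G} (hv : v ∈ zl (S : Subgroup G) P) (hw : w ∈ zl (S : Subgroup G) P)
    (he : M.nat.e v = M.nat.e w) : v = w := by
  have h1 : v * w⁻¹ = 1 := by
    refine D.ln.fr.C0 _ (mul_mem hv (inv_mem hw)) fun i => ⟨mul_mem hv (inv_mem hw), ?_⟩
    rw [M.map_div hv hw, he, sub_self]
    rfl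
  exact mul_inv_eq_one.1 h1

theorem cB {b z : G} (hb : b ∈ BT n) (hz : z ∈ ZT n) : b * z = z * b :=
  ((D.ln.fr.mem_ZJ z).1 hz).2 b hb

theorem BS : BT n ≤ (S : Subgroup G) := (lb n).BS

theorem mem_B {t : G} (ht : t ∈ (S : Subgroup G)) (hc : ∀ z ∈ ZT n, t * z = z * t) :
    t ∈ BT n :=
  ⟨ht, mem_centralizer_iff.2 fun z hz => (hc z hz).symm⟩

theorem up_of [Finite F] [CharP F 2] {b : G} (hb : b ∈ BT n) :
    ∃ c : Fin k → F, M.Acts b fun i => up (c i) :=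
  exists_up M D.syl (D.BS hb) fun v hv hv1 => D.cB hb ((D.memJ v).2 ⟨hv, hv1⟩)

theorem exists_b (c : Fin k → F) : ∃ b ∈ BT n, M.Acts b fun i => up (c i) := by
  obtain ⟨t, ht, hA, -⟩ := M.nat.unip c
  refine ⟨t, D.mem_B ht fun z hz => ?_, hA⟩
  obtain ⟨hz1, hz2⟩ := (D.memJ z).1 hz
  refine mul_inv_eq_iff_eq_mul.1 (D.inj (M.Vn t (D.SP ht) z hz1) hz1 ?_)
  funext j
  rw [hA z hz1 j]
  apply ext2
  · rw [ap_zero', up_00, up_01, hz2 j]; ring
  · rw [ap_one', up_10, up_11]; ring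

omit [Finite G] D in
theorem e_up {b : G} {c : Fin k → F} (hc : M.Acts b fun i => up (c i)) {v : G} (hv : v ∈ zl (S : Subgroup G) P)
    (i : Fin k) : M.nat.e (b * v * b⁻¹) i 0 = M.nat.e v i 0 + c i * M.nat.e v i 1 ∧
      M.nat.e (b * v * b⁻¹) i 1 = M.nat.e v i 1 := by
  rw [hc v hv i]
  constructor
  · rw [ap_zero', up_00, up_01, one_mul]
  · rw [ap_one', up_10, up_11, zero_mul, one_mul, zero_add]

/-- The coordinates are `Cd`. -/
theorem cd [Finite F] [CharP F 2] :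
    Cd F (BT n) (zl (S : Subgroup G) P) (ZT n) k M.nat.e where
  VV := fun v hv w hw => D.ln.fr.Vc hv hw
  mul := M.nat.mul
  surj := M.nat.surj
  inj := fun v hv h0 => D.inj hv (one_mem _) (by rw [h0, M.map_one])
  ZV := D.ln.fr.ZJV
  memZ := fun v hv => ⟨fun h => ((D.memJ v).1 h).2, fun h => (D.memJ v).2 ⟨hv, h⟩⟩
  nB := fun b hb v hv => M.Vn b (D.SP (D.BS hb)) v hv
  act := fun b hb => by
    obtain ⟨c, hc⟩ := D.up_of hb
    exact ⟨c, fun v hv i => e_up hc hv i⟩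
  full := fun c => by
    obtain ⟨b, hb, hc⟩ := D.exists_b c
    exact ⟨b, hb, fun v hv i => e_up hc hv i⟩

/-- `N_G(B)` acts by `Nm`. -/
theorem nm [Finite F] [CharP F 2] {g : G} (hg : g ∈ normalizer (BT n : Set G)) :
    Nm (BT n) (zl (S : Subgroup G) P) M.nat.e g := by
  have c := D.cd
  obtain ⟨h1, h2⟩ := D.ln.norm hg
  refine ⟨fun v hv => ?_, fun b hb => (mem_normalizer_iff.1 hg b).1 hb, fun i => ?_⟩
  · rw [← h1]
    exact ⟨v, hv, rfl⟩
  obtain ⟨j, h3, h4⟩ := h2 i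
  refine ⟨j, fun z hz hzl hz1 => ?_, fun w hw hwl l hl => ?_⟩
  · have h5 : z ∈ Z i := (D.memZ i z).2 ⟨⟨hz, hzl⟩, hz1⟩
    have h6 : g * z * g⁻¹ ∈ Z j := by
      rw [← h3]; exact ⟨z, h5, rfl⟩
    obtain ⟨h7, h8⟩ := (D.memZ j _).1 h6
    exact ⟨h7.2, h8⟩
  · have h5 : w ∈ Wn M i := ⟨hw, hwl⟩
    have h6 : g * w * g⁻¹ ∈ Wn M j ⊔ ZT n := h4 ⟨w, h5, rfl⟩
    have hle : ZT n ≤ zl (S : Subgroup G) P := c.ZV
    have hcom : ∀ a ∈ ZT n, ∀ b ∈ Wn M j, a * b = b * a := fun a ha b hb =>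
      c.VV a (hle ha) b hb.1
    obtain ⟨x, hx, z, hz, e⟩ := SQ1.Bau.mem_sup_comm hcom (by rw [sup_comm]; exact h6)
    rw [e, c.mul x (hle hx) z hz.1, Pi.add_apply, Pi.add_apply,
      hz.2 l hl, (c.memZ x (hle hx)).1 hx l]
    simp

theorem S_norm : (S : Subgroup G) ≤ normalizer (BT n : Set G) :=
  (lb n).two_le S.isPGroup' D.BS

theorem P_norm : P ≤ normalizer (zl (S : Subgroup G) P : Set G) := by
  intro p hp
  rw [mem_normalizer_iff_cj]
  refine Subgroup.eq_of_le_of_card_ge ?_ (by rw [card_cj])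
  rintro _ ⟨v, hv, rfl⟩
  exact M.Vn p hp v hv

/-- The module data of helper87. -/
theorem exists_md [Finite F] [CharP F 2] : ∃ z₀ f₀ : Fin k → F,
    FourF.MD M.nat (BT n) (ZT n) (Wn M) Z z₀ f₀ := by
  obtain ⟨z₀, f₀, h1, h2, h3⟩ := D.cd.exists_cn D.k_pos S.isPGroup' (fun _ hs => D.nm (D.S_norm hs)) M.nat.trans
  exact ⟨z₀, f₀, D.P_norm, D.SP, h1, h2, h3, fun i v => Iff.rfl, D.memZ⟩

/-! ### Conjugation into `Z_J` -/

theorem Z_W (i : Fin k) : Z i ≤ Wn M i := fun z hz => ((D.memZ i z).1 hz).1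

theorem mem_Z_iff {i : Fin k} {v : G} : v ∈ Z i ↔ v ∈ ZT n ∧ ∀ j, j ≠ i → M.nat.e v j = 0 := by
  rw [D.memZ]
  constructor
  · rintro ⟨⟨h1, h2⟩, h3⟩
    refine ⟨(D.memJ v).2 ⟨h1, fun j => ?_⟩, h2⟩
    by_cases hj : j = i
    · rw [hj]; exact h3
    · rw [h2 j hj]; rfl
  · rintro ⟨h1, h2⟩
    exact ⟨⟨((D.memJ v).1 h1).1, h2⟩, ((D.memJ v).1 h1).2 i⟩

/-- one step -/
theorem step (i : Fin k) {v : G} (hv : v ∈ zl (S : Subgroup G) P) : ∃ l ∈ L i, M.nat.e (l * v * l⁻¹) i 1 = 0 ∧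
    ∀ j, j ≠ i → M.nat.e (l * v * l⁻¹) j 1 = M.nat.e v j 1 ∧ (M.nat.e v j = 0 → M.nat.e (l * v * l⁻¹) j = 0) := by
  by_cases h0 : M.nat.e v i = 0
  · refine ⟨1, one_mem _, ?_, fun j hj => ?_⟩
    · rw [one_mul, inv_one, mul_one, h0]; rfl
    · rw [one_mul, inv_one, mul_one]; exact ⟨rfl, fun h => h⟩
  · have hne : (![1, 0] : Fin 2 → F) ≠ 0 := by
      intro h1
      have := congrFun h1 0
      simp at this
    obtain ⟨B, hB⟩ := exists_ap h0 hne
    obtain ⟨l, hl, A'', hA, hAi⟩ := D.acts i B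
    obtain ⟨hlP, A', hA', hup⟩ := D.LX i hl
    refine ⟨l, hl, ?_, fun j hj => ?_⟩
    · rw [hA v hv i, hAi, hB]; rfl
    · obtain ⟨c, hc⟩ := hup j hj
      rw [hA' v hv j, hc]
      refine ⟨?_, fun h1 => ?_⟩
      · rw [ap_one', up_10, up_11]; ring
      · rw [h1, ap_z]

theorem conj_aux (r : Set (Fin k)) {x : G} (hx : x ∈ zl (S : Subgroup G) P) (hs : ∀ i, i ∉ r → M.nat.e x i = 0) :
    ∀ s : Finset (Fin k), (∀ i ∈ s, i ∈ r) → ∃ g ∈ ⨆ i ∈ r, L i, g * x * g⁻¹ ∈ zl (S : Subgroup G) P ∧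
      (∀ i, i ∉ r → M.nat.e (g * x * g⁻¹) i = 0) ∧ ∀ i ∈ s, M.nat.e (g * x * g⁻¹) i 1 = 0 := by
  classical
  intro s
  induction s using Finset.induction_on with
  | empty =>
    intro _
    refine ⟨1, one_mem _, ?_, fun i hi => ?_, fun i hi => absurd hi (Finset.notMem_empty i)⟩
    · simpa using hx
    · simpa using hs i hi
  | insert i s hi ih =>
    intro hr
    obtain ⟨g, hg, hgV, hg1, hg2⟩ := ih fun j hj => hr j (Finset.mem_insert_of_mem hj)
    have hir : i ∈ r := hr i (Finset.mem_insert_self i s)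
    obtain ⟨l, hl, h1, h2⟩ := D.step i hgV
    have hLr : L i ≤ ⨆ i ∈ r, L i := le_iSup₂_of_le i hir le_rfl
    have e : (l * g) * x * (l * g)⁻¹ = l * (g * x * g⁻¹) * l⁻¹ := by group
    refine ⟨l * g, mul_mem (hLr hl) hg, ?_, fun j hj => ?_, fun j hj => ?_⟩
    · rw [e]; exact M.Vn l (D.LP i hl) _ hgV
    · rw [e]
      exact (h2 j fun h => hj (h ▸ hir)).2 (hg1 j hj)
    · rw [e]
      by_cases hji : j = i
      · rw [hji]; exact h1
      · rw [(h2 j hji).1]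
        rcases Finset.mem_insert.1 hj with h3 | h3
        · exact absurd h3 hji
        · exact hg2 j h3

omit [Finite G] D in
theorem sup_W_le (r : Set (Fin k)) {x : G} (hx : x ∈ ⨆ i ∈ r, Wn M i) :
    x ∈ zl (S : Subgroup G) P ∧ ∀ i, i ∉ r → M.nat.e x i = 0 := by
  have h1 : (⨆ i ∈ r, Wn M i) ≤ zl (S : Subgroup G) P := iSup₂_le fun i _ v hv => hv.1
  refine ⟨h1 hx, fun i hi => ?_⟩
  have h2 : (⨆ j ∈ r, Wn M j) ≤ Cn M i := iSup₂_le fun j hj v hv => ⟨hv.1, hv.2 i fun h => hi (h ▸ hj)⟩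
  exact (h2 hx).2

/-- an element of `⟨W i : i ∈ r⟩` is conjugate under `⟨L i : i ∈ r⟩` to an element of `Z_J`. -/
theorem conj_ZJ (r : Set (Fin k)) {x : G} (hx : x ∈ ⨆ i ∈ r, Wn M i) :
    ∃ g ∈ ⨆ i ∈ r, L i, g * x * g⁻¹ ∈ ZT n := by
  classical
  obtain ⟨hxV, hxs⟩ := sup_W_le r hx
  have hfin : r.Finite := Set.toFinite r
  obtain ⟨g, hg, h1, h2, h3⟩ := D.conj_aux r hxV hxs hfin.toFinset fun i hi => by simpa using hi
  refine ⟨g, hg, (D.memJ _).2 ⟨h1, fun i => ?_⟩⟩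
  by_cases hi : i ∈ r
  · exact h3 i (by simpa using hi)
  · rw [h2 i hi]; rfl

/-- `W i` is covered by the conjugates of `Z i`. -/
theorem cover (i : Fin k) {x : G} (hx : x ∈ Wn M i) : ∃ l ∈ L i, l * x * l⁻¹ ∈ Z i := by
  obtain ⟨l, hl, h1, h2⟩ := D.step i hx.1
  exact ⟨l, hl, (D.memZ i _).2 ⟨⟨M.Vn l (D.LP i hl) _ hx.1, fun j hj => (h2 j hj).2 (hx.2 j hj)⟩, h1⟩⟩

/-- the order of `W i` -/
theorem card_W [Finite F] (i : Fin k) : Nat.card (Wn M i) = Nat.card F * Nat.card F := by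
  rw [(D.ln.fr.blk i).card, D.ln.fr.cardZ i]

end Dt

end Cfsg.Agent.Omega.OM.SWT

end

section


/-!
# THEOREM SWQ over a general top level `K₀`, CASE II: `T` normalises `Z j` and does not centralise it, `q > 4`

Port of `SWQ/CaseTwo.lean`, `SWQ/CaseTwoEnd.lean` (helper359) to the frames `Ln`, `Dt` of `SWT/{Base, Dt}.lean`.

* `comm_pair`, `elab_V` : `⟨V^F⟩` is elementary abelian (any `q`);
* `false_of` : the instance of `Fam.One`; `Dt.case_two` : `T` normalises all `Z i`, `|F| ≠ 4`: contradiction. The choice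
  of the pair is the hypothesis `hcen` only, the family of offenders is the hypothesis `hfam`.
-/

set_option autoImplicit false
set_option linter.unusedSectionVars false

namespace Cfsg.Agent.Omega.OM.SWT.CaseTwo

open Subgroup Cfsg Cfsg.Agent.ZN.ChoiceBase Cfsg.Agent.ZN.ChoiceSit
open Cfsg.Agent.ZN (jj zj bau zc zl o2)
open Cfsg.Agent.Omega.FrameFF (cv)
open Cfsg.Agent.Omega.NO3S.OneLine (NatC)
open Cfsg.Agent.Omega.OM.Lev.Nat
open Cfsg.Agent.Omega.OM.Swap.Fam (Fm Cost)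
open Cfsg.Agent.Omega.OM.FourF (MD Act)
open Cfsg.Agent.Omega.OM.SWQ.CaseTwo (Cj cj_of_md)

universe u

variable {G : Type u} [Group G] [Finite G]

section line

variable {ι : Type} [Finite ι] {S : Sylow 2 G} {P : Subgroup G} {n : LV S} {L W Z C A : ι → Subgroup G} {q : ℕ}

/-- `V` commutes with its conjugates under `F`. -/
theorem comm_pair (h : Ln P n L W Z C A q) {M H T F : Subgroup G} (hp : Pair P n M H T F) {f : G} (hf : f ∈ F)
    {x y : G} (hx : x ∈ zl (S : Subgroup G) P) (hy : y ∈ zl (S : Subgroup G) P) :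
    x * (f * y * f⁻¹) = f * y * f⁻¹ * x := by
  have hV := hp.VO
  have hTn := two_norm h hp.syl.2.1 hp.BT
  have hO : o2 F ≤ T := o2_le_syl hp.syl
  have hcO : cj f (o2 F) = o2 F := cj_eq_of_mem_normalizer (le_normalizer_o2 F hf)
  have h1 : cj f (zl (S : Subgroup G) P) ≤ normalizer (zl (S : Subgroup G) P : Set G) := by
    have := cj_mono f hV
    rw [hcO] at this
    exact (this.trans hO).trans hTn
  have h2 : zl (S : Subgroup G) P ≤ normalizer ((cj f (zl (S : Subgroup G) P) : Subgroup G) : Set G) := by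
    have h3 := cj_mono f ((hO.trans hTn : o2 F ≤ normalizer (zl (S : Subgroup G) P : Set G)))
    rw [hcO, cj_normalizer] at h3
    exact hV.trans h3
  by_contra hne
  refine h.hyp.noFF ⟨P, P, f, h.hyp.star, h.hyp.star, h2, h1, fun e => hne ?_⟩
  have h4 := commutator_eq_bot_iff_le_centralizer.1 e
  exact (mem_centralizer_iff.1 (h4 hx) (f * y * f⁻¹) ⟨y, hy, rfl⟩).symm

/-- `⟨V^F⟩` is elementary abelian. -/
theorem elab_V (h : Ln P n L W Z C A q) {M H T F : Subgroup G} (hp : Pair P n M H T F) :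
    IsElementaryAbelian 2 (NoFF.Basic.V (zl (S : Subgroup G) P) F) := by
  have h1 := Swap.elab_iSup (W := fun f : F => cj (f : G) (zl (S : Subgroup G) P)) (fun f f' x hx y hy => ?_)
    fun f x hx => ?_
  · exact Swap.elab_of h1.1 h1.2
  · rw [mem_cj] at hx hy
    have h2 := comm_pair h hp (mul_mem (inv_mem f.2) f'.2) hx hy
    have e1 : (f : G)⁻¹ * f' * ((f' : G)⁻¹ * y * f') * ((f : G)⁻¹ * f')⁻¹ = (f : G)⁻¹ * y * f := by group
    rw [e1] at h2
    have h3 := congrArg (fun t => (f : G) * t * (f : G)⁻¹) h2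
    have e2 : (f : G) * ((f : G)⁻¹ * x * f * ((f : G)⁻¹ * y * f)) * (f : G)⁻¹ = x * y := by group
    have e3 : (f : G) * ((f : G)⁻¹ * y * f * ((f : G)⁻¹ * x * f)) * (f : G)⁻¹ = y * x := by group
    exact e2.symm.trans (h3.trans e3)
  · rw [mem_cj] at hx
    have h2 := SQ1.Bau.elem_sq h.fr.el _ hx
    rw [pow_two] at h2
    have e : x * x = f * ((f : G)⁻¹ * x * f * ((f : G)⁻¹ * x * f)) * (f : G)⁻¹ := by group
    rw [e, h2]; group

end line

section line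

variable {ι : Type} [Finite ι] {S : Sylow 2 G} {P : Subgroup G} {n : LV S} {L W Z C A : ι → Subgroup G} {q : ℕ}
  {K : Type} [Field K] [CharP K 2]

/-- `O₂(F)` does not centralise `Z j`. -/
theorem exists_o (h : Ln P n L W Z C A q) {M H T F : Subgroup G} (hp : Pair P n M H T F) {j : ι}
    (hne : ¬ Z j ≤ centralizer (T : Set G)) : ∃ o ∈ o2 F, ∃ z ∈ Z j, o * z ≠ z * o := by
  by_contra hcon
  push Not at hcon
  apply hne
  intro z hz
  have h1 : z ∈ centralizer (F : Set G) :=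
    hp.fix ⟨h.fr.Z_le j hz, mem_centralizer_iff.2 fun o ho => hcon o ho z hz⟩
  exact centralizer_le (by exact_mod_cast hp.syl.1) h1

/-- (**) `N_F(Z j) ≤ M` -/
theorem norm_Z (h : Ln P n L W Z C A q) {M H T F : Subgroup G} (hp : Pair P n M H T F)
    (hN : normalizer (BT n : Set G) ≤ M) {j : ι}
    (H1 : ∀ f ∈ F, (∀ x ∈ Z j, f * x = x * f) → f ∈ M) {f : G} (hf : f ∈ F) (hfZ : cj f (Z j) = Z j) : f ∈ M := by
  set Q : Subgroup G := F ⊓ centralizer (Z j : Set G) with hQ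
  have hB : BT n ≤ Q :=
    le_inf (hp.BT.trans hp.syl.1) ((lb n).Bc.trans (centralizer_le (by exact_mod_cast h.fr.Z_le j)))
  obtain ⟨R, hR, hBR⟩ := exists_syl (lb n).Bp hB
  have hQf : cj f Q = Q := by
    rw [hQ, cj_inf, cj_centralizer, hfZ, cj_eq_of_mem_normalizer (le_normalizer hf)]
  have hR' : Syl (cj f R) Q := by
    refine ⟨(cj_mono f hR.1).trans hQf.le, isPGroup_cj f hR.2.1, fun T' hT' hp' hle => ?_⟩
    have h3 : cj f⁻¹ T' ≤ Q := by
      have := cj_mono f⁻¹ hT'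
      rwa [← hQf, cj_inv_cj] at this
    have h4 := hR.2.2 (cj f⁻¹ T') h3 (isPGroup_cj _ hp') (cj_le_iff.1 hle)
    rw [← h4, cj_cj_inv]
  obtain ⟨x, hx, e⟩ := syl_conj hR' hR
  have h5 : cj (x * f) R = R := by rw [← cj_cj]; exact e
  have h6 : cj (x * f) (BT n) = BT n := by
    have h7 : cj (x * f) (BT n) ≤ R := (cj_mono _ hBR).trans h5.le
    exact wc n R hR.2.1 hBR (x * f) h7
  have h8 : x * f ∈ M := hN (mem_normalizer_iff_cj.2 h6)
  have h9 : x ∈ M := H1 x hx.1 fun z hz => (mem_centralizer_iff.1 hx.2 z hz).symm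
  have := mul_mem (inv_mem h9) h8
  rwa [inv_mul_cancel_left] at this

/-- **CASE II** -/
theorem false_of (h : Ln P n L W Z C A q) {M H T F : Subgroup G} (hp : Pair P n M H T F) (hfam : FamF P n T F)
    (hD : centralizer (ZT n : Set G) ≤ M) (hN : normalizer (BT n : Set G) ≤ M)
    {j : ι} {e : G → K × K} (c : Cj K T (BT n) (W j) (Z j) e)
    (hne : ¬ Z j ≤ centralizer (T : Set G))
    (hNb : ∀ x ∈ Z j, x ∉ centralizer (T : Set G) → ∀ f ∈ F, f * x = x * f → f ∈ M)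
    (hcost : Cost T (W j) fun x => x ∈ Z j ∧ x ∉ centralizer (T : Set G))
    (h4 : F ⊓ normalizer (W j : Set G) ≤ M) : False := by
  have hZM : normalizer (ZT n : Set G) ≤ M := (lb n).norm_zj_le.trans (sup_le hD hN)
  have hTN : T ≤ normalizer (BT n : Set G) := (lb n).two_le hp.syl.2.1 hp.BT
  have hTM : T ≤ M := hTN.trans hN
  have hO : o2 F ≤ T := o2_le_syl hp.syl
  obtain ⟨𝓐, hfam, hnJ, hA⟩ := hfam
  have hVel := elab_V h hp
  have hUV : W j ≤ zl (S : Subgroup G) P := h.fr.WV j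
  have hLV : NoFF.Basic.V (W j) F ≤ NoFF.Basic.V (zl (S : Subgroup G) P) F :=
    NoFF.Basic.V_le fun f hf => (cj_mono f hUV).trans (NoFF.Basic.Z_le_V hf)
  have hUO : W j ≤ o2 F := hUV.trans hp.VO
  have hUF : W j ≤ F := hUO.trans (o2_le F)
  have hLF : NoFF.Basic.V (W j) F ≤ F := by
    refine NoFF.Basic.V_le fun f hf => ?_
    have := cj_mono f hUF
    rwa [cj_eq_of_mem_normalizer (le_normalizer hf)] at this
  have hel := Swap.elab_mono hVel hLV
  have H1 : ∀ f ∈ F, (∀ x ∈ Z j, f * x = x * f) → f ∈ M := by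
    intro f hf hx
    obtain ⟨x, hx1, hx2⟩ := SetLike.not_le_iff_exists.1 hne
    exact hNb x hx1 hx2 f hf (hx x hx1)
  have hone : Swap.Fam.One F T (F ⊓ M) 𝓐 (W j) (fun _ : Unit => W j) (fun _ : Unit => Z j) :=
    { syl := hp.syl
      TF₀ := le_inf hp.syl.1 hTM
      F₀F := lt_of_le_of_ne inf_le_left fun e => hp.nM (inf_eq_left.1 e)
      max := fun K hTK hKF => le_inf hKF.le (hp.min K hTK hKF)
      fam := hfam _ hel hLF OmThm.XD.X_le_normalizer_W hLV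
      nJ := hnJ
      ne := ⟨()⟩
      UO := hUO
      TU := c.TU
      comm := fun x hx y hy => SQ1.Bau.elem_comm hel x hx y hy
      sq := fun x hx => by
        have := SQ1.Bau.elem_sq hel x hx
        rwa [pow_two] at this
      sup := by rw [iSup_const]
      H1 := fun _ f hf hx => ⟨hf, H1 f hf hx⟩
      H2 := fun X hX hXT _ => c.h2 (hA X hX hXT).1
      H3 := fun _ => c.h3 hO ((hp.syl.1).trans (le_normalizer_o2 F)) (exists_o h hp hne)
      H4 := le_inf inf_le_left h4 }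
  exact hone.false_of_count (fun x _ hb f hf hfx => ⟨hf, hNb x hb.1 hb.2 f hf hfx⟩) hcost

end line


section md

variable {S : Sylow 2 G} {P : Subgroup G} {n : LV S} {F : Type} [Field F] [Finite F]
  [CharP F 2] {k : ℕ} {M : NatC F (S : Subgroup G) P (zl (S : Subgroup G) P) (cv (S : Subgroup G) P) k}
  {L Z A : Fin k → Subgroup G} (D : Dt P n M L Z A)

include D in
/-- `Z_J = ∏ Z i` -/
theorem ZL_le : ZT n ≤ ⨆ i, Z i := by
  classical
  intro z hz
  have c := D.cd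
  obtain ⟨hzV, hz1⟩ := (D.memJ z).1 hz
  have key : ∀ s : Finset (Fin k), ∃ w ∈ zl (S : Subgroup G) P, w ∈ (⨆ i, Z i) ∧
      M.nat.e w = fun i => if i ∈ s then M.nat.e z i else 0 := by
    intro s
    induction s using Finset.induction_on with
    | empty => exact ⟨1, one_mem _, one_mem _, by rw [c.map_one]; funext i; simp⟩
    | insert a s ha ih =>
      obtain ⟨w, hw, hw1, hw2⟩ := ih
      obtain ⟨v, hv, hve⟩ := c.surj (Pi.single a (M.nat.e z a))
      have hvZ : v ∈ Z a := (D.memZ a v).2 ⟨⟨hv, fun j hj => by rw [hve, Pi.single_eq_of_ne hj]⟩, by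
        rw [hve, Pi.single_eq_same]; exact hz1 a⟩
      refine ⟨v * w, mul_mem hv hw, mul_mem ((le_iSup Z a) hvZ) hw1, ?_⟩
      rw [c.mul v hv w hw, hve, hw2]
      funext i
      by_cases hi : i = a
      · subst hi
        simp [ha]
      · simp [hi]
  obtain ⟨w, hw, hw1, hw2⟩ := key Finset.univ
  have h1 : z = w := c.eq_of hzV hw (by rw [hw2]; funext i; simp)
  rw [h1]
  exact hw1

include D in
/-- **CASE II** -/
theorem _root_.Cfsg.Agent.Omega.OM.SWT.Dt.case_two {X H T Y : Subgroup G} (hp : Pair P n X H T Y)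
    (hTS : T ≤ (S : Subgroup G)) (hfam : FamF P n T Y)
    (hcen : ∀ R : Subgroup G, R ≤ ZT n → ZT n ⊓ centralizer (T : Set G) < R → centralizer (R : Set G) ≤ X)
    (hD : centralizer (ZT n : Set G) ≤ X) (hN : normalizer (BT n : Set G) ≤ X)
    (hPhi : ∀ i, i ∈ Phi Z T) (hq : Nat.card F ≠ 4) : False := by
  obtain ⟨z₀, f₀, m⟩ := D.exists_md
  have hT2 := hp.syl.2.1
  have hO : o2 Y ≤ T := o2_le_syl hp.syl
  obtain ⟨j, hj⟩ : ∃ j, ¬ Z j ≤ centralizer (T : Set G) := by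
    by_contra hcon
    push Not at hcon
    apply hp.nM
    have h1 : ZT n ≤ centralizer (Y : Set G) := by
      intro z hz
      refine hp.fix ⟨hz, centralizer_le (by exact_mod_cast hO) ?_⟩
      exact (iSup_le hcon) (ZL_le D hz)
    exact (le_centralizer_iff.1 h1).trans hD
  have c : Cj F T (BT n) (Wn M j) (Z j) (MD.co M.nat z₀ f₀ j) :=
    cj_of_md m hTS hp.BT (fun t ht => hPhi j t ht) (fun b hb z hz => D.cB hb (D.ln.fr.Z_le j hz)) fun v hv => by
      have := SQ1.Bau.elem_sq D.ln.fr.el v hv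
      rwa [pow_two] at this
  have hNb : ∀ x ∈ Z j, x ∉ centralizer (T : Set G) → ∀ f ∈ Y, f * x = x * f → f ∈ X := by
    intro x hx hxT f hf hfx
    have hY : (ZT n ⊓ centralizer (T : Set G)) ⊔ zpowers x ≤ ZT n :=
      sup_le inf_le_left (by rw [zpowers_le]; exact D.ln.fr.Z_le j hx)
    have hlt : ZT n ⊓ centralizer (T : Set G) <
        (ZT n ⊓ centralizer (T : Set G)) ⊔ zpowers x := by
      refine lt_of_le_of_ne le_sup_left fun e => hxT ?_
      have h1 : x ∈ (ZT n ⊓ centralizer (T : Set G)) ⊔ zpowers x := mem_sup_right (mem_zpowers x)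
      rw [← e] at h1
      exact h1.2
    refine hcen _ hY hlt ?_
    have h2 : (ZT n ⊓ centralizer (T : Set G)) ⊔ zpowers x ≤ centralizer ({f} : Set G) := by
      refine sup_le (fun z hz => ?_) ?_
      · rw [mem_centralizer_singleton_iff]
        have h3 : z ∈ centralizer (Y : Set G) := hp.fix ⟨hz.1, centralizer_le (by exact_mod_cast hO) hz.2⟩
        exact (mem_centralizer_iff.1 h3 f hf).symm
      · rw [zpowers_le, mem_centralizer_singleton_iff]
        exact hfx.symm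
    exact mem_centralizer_iff.2 fun z hz => mem_centralizer_singleton_iff.1 (h2 hz)
  have hTO : T ≤ normalizer (o2 Y : Set G) := hp.syl.1.trans (le_normalizer_o2 Y)
  refine false_of D.ln hp hfam hD hN c hj hNb (c.cost hT2 hq hj) ?_
  rintro f ⟨hf, hfU⟩
  refine norm_Z D.ln hp hN (fun f hf hx => ?_) hf
    (c.h4 hT2 hq hO hTO (exists_o D.ln hp hj) (cj_eq_of_mem_normalizer (le_normalizer_o2 Y hf)) hfU)
  obtain ⟨x, hx1, hx2⟩ := SetLike.not_le_iff_exists.1 hj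
  exact hNb x hx1 hx2 f hf (hx x hx1)

end md

end Cfsg.Agent.Omega.OM.SWT.CaseTwo

end

section


/-!
# (4F) over a general top level `K₀`: `T` normalises all `Z i`, `|F| = 4`

Port of `SWQ/CaseFour.lean` (helper87) to the frames of `SWT/{Base, Dt}.lean`.

* `Dt.slX` : `SL₂(F)` on `W i` inside `X ≥ L i, B`;
* `Core4` : the situation; `Core4.exists_u`, `Core4.thr`, `Core4.oneF`;
* `Dt.case_four` : contradiction.
-/

set_option autoImplicit false
set_option linter.unusedSectionVars false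

namespace Cfsg.Agent.Omega.OM.SWT.CaseFour

open Subgroup Cfsg Cfsg.Agent.ZN.ChoiceBase Cfsg.Agent.ZN.ChoiceSit
open Cfsg.Agent.ZN (jj zj bau zc zl o2)
open Cfsg.Agent.Lib.SL2Mat
open Cfsg.Agent.Omega.NatPair hiding cj
open Cfsg.Agent.Omega.FFThm (NatK NatKM ActsSL)
open Cfsg.Agent.Omega.FrameFF (cv)
open Cfsg.Agent.Omega.NO3S (HypN)
open Cfsg.Agent.Omega.NO3S.OneLine (NatC)
open Cfsg.Agent.Omega.NO3S.Level (lev)
open Cfsg.Agent.Omega.OM.Lev.Nat
open Cfsg.Agent.Omega.OM.FourF (MD Thr OneF Lin Sem conjW dl dl_ap' dl_zero' dl_one')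
open Cfsg.Agent.Omega.OM.SWT.CaseTwo (elab_V ZL_le)
open Cfsg.Agent.MinSimple.MinParabolic (IsMinPar)
open Cfsg.Agent.MinSimple.VModule (oddGen oddGen_le mem_oddGen oddGen_def)

universe u

variable {G : Type u} [Group G] [Finite G] {S : Sylow 2 G} {P : Subgroup G} {n : LV S} {F : Type} [Field F] [Finite F]
  [CharP F 2] {k : ℕ} {M : NatC F (S : Subgroup G) P (zl (S : Subgroup G) P) (cv (S : Subgroup G) P) k}
  {L Z A : Fin k → Subgroup G} (D : Dt P n M L Z A)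

include D

/-- elements of `⟨L i, B⟩` acting on `W i` as `A'`, trivially on the other summands. -/
theorem lift_one {X : Subgroup G} (hL : ∀ i, L i ≤ X) (hB : BT n ≤ X) (i : Fin k)
    (A' : Matrix.SpecialLinearGroup (Fin 2) F) : ∃ g ∈ X, g ∈ normalizer (Wn M i : Set G) ∧
      (∀ w ∈ Wn M i, M.nat.e (g * w * g⁻¹) i = ap A' (M.nat.e w i)) ∧
        ∀ j, j ≠ i → ∀ w ∈ Wn M j, g * w = w * g := by
  classical
  obtain ⟨l, hl, A'', hA, hAi⟩ := D.acts i A'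
  obtain ⟨hlP, A₁, hA₁, hup⟩ := D.LX i hl
  have hc : ∀ j, ∃ c, j ≠ i → A₁ j = up c := by
    intro j
    by_cases hj : j = i
    · exact ⟨0, fun h => absurd hj h⟩
    · obtain ⟨c, hc⟩ := hup j hj
      exact ⟨c, fun _ => hc⟩
  choose c hc using hc
  obtain ⟨b, hb, hbA⟩ := D.exists_b fun j => if j = i then 0 else - c j
  have hbP : b ∈ P := D.SP (D.BS hb)
  have hgP : b * l ∈ P := mul_mem hbP hlP
  have hgX : b * l ∈ X := mul_mem (hB hb) (hL i hl)
  have hV : ∀ v ∈ zl (S : Subgroup G) P, b * l * v * (b * l)⁻¹ ∈ zl (S : Subgroup G) P := fun v hv => M.Vn _ hgP v hv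
  have hi : ∀ v ∈ zl (S : Subgroup G) P, M.nat.e (b * l * v * (b * l)⁻¹) i = ap A' (M.nat.e v i) := by
    intro v hv
    have e1 : b * l * v * (b * l)⁻¹ = b * (l * v * l⁻¹) * b⁻¹ := by group
    rw [e1, hbA _ (M.Vn l hlP v hv) i, hA v hv i, hAi]
    beta_reduce
    rw [if_pos rfl]
    apply ext2
    · rw [ap_zero', up_00, up_01, one_mul, zero_mul, add_zero]
    · rw [ap_one', up_10, up_11, zero_mul, one_mul, zero_add]
  have hj : ∀ v ∈ zl (S : Subgroup G) P, ∀ j, j ≠ i → M.nat.e (b * l * v * (b * l)⁻¹) j = M.nat.e v j := by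
    intro v hv j hj
    have e1 : b * l * v * (b * l)⁻¹ = b * (l * v * l⁻¹) * b⁻¹ := by group
    rw [e1, hbA _ (M.Vn l hlP v hv) j, hA₁ v hv j, hc j hj]
    beta_reduce
    rw [if_neg hj]
    apply ext2
    · rw [ap_zero', up_00, up_01, ap_zero', ap_one', up_00, up_01, up_10, up_11]
      ring
    · rw [ap_one', up_10, up_11, ap_zero', ap_one', up_00, up_01, up_10, up_11]
      ring
  refine ⟨b * l, hgX, ?_, fun w hw => hi w hw.1, fun j hj' w hw => ?_⟩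
  · rw [mem_normalizer_iff_cj]
    refine Subgroup.eq_of_le_of_card_ge ?_ (by rw [card_cj])
    rintro _ ⟨v, hv, rfl⟩
    refine ⟨hV v hv.1, fun j hj' => ?_⟩
    show M.nat.e (b * l * v * (b * l)⁻¹) j = 0
    rw [hj v hv.1 j hj', hv.2 j hj']
  · refine mul_inv_eq_iff_eq_mul.1 (D.inj (hV w hw.1) hw.1 ?_)
    funext m
    by_cases hm : m = i
    · rw [hm, hi w hw.1, hw.2 i (Ne.symm hj')]
      apply ext2
      · rw [ap_zero']; simp
      · rw [ap_one']; simp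
    · exact hj w hw.1 m hm

variable {z₀ f₀ : Fin k → F}

/-- (SL) -/
theorem sl (m : MD M.nat (BT n) (ZT n) (Wn M) Z z₀ f₀) {X : Subgroup G}
    (hL : ∀ i, L i ≤ X) (hB : BT n ≤ X) (i : Fin k) (a b c d : F) (hd : a * d - b * c = 1) :
    ∃ g ∈ X, g ∈ normalizer (Wn M i : Set G) ∧
      FourF.Act (Wn M i) (MD.co M.nat z₀ f₀ i) g (fun p => (a * p.1 + b * p.2, c * p.1 + d * p.2)) ∧
        ∀ j, j ≠ i → ∀ w ∈ Wn M j, g * w = w * g := by
  obtain ⟨A, hA⟩ := dl_ap' (m.hz i) (m.hf i) (Cfsg.Agent.Lib.SL2Mat.mk a b c d hd)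
  obtain ⟨g, hg, h1, h2, h3⟩ := lift_one D hL hB i A
  refine ⟨g, hg, h1, fun w hw => ?_, h3⟩
  have h4 := hA (M.nat.e w i)
  rw [← h2 w hw] at h4
  have h5 := congrFun h4 0
  have h6 := congrFun h4 1
  rw [dl_zero', ap_zero', mk_00, mk_01] at h5
  rw [dl_one', ap_one', mk_10, mk_11] at h6
  ext
  · rw [MD.co_fst]; exact h5
  · rw [MD.co_snd]; exact h6

/-- The coordinate `co` vanishes at `1`. -/
theorem co_one (m : MD M.nat (BT n) (ZT n) (Wn M) Z z₀ f₀) (i : Fin k) :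
    MD.co M.nat z₀ f₀ i 1 = 0 := by
  have h1 := m.co_mul (i := i) (one_mem (zl (S : Subgroup G) P)) (one_mem _)
  rw [mul_one] at h1
  exact left_eq_add.1 h1

section core

variable {X H T Y : Subgroup G} (m : MD M.nat (BT n) (ZT n) (Wn M) Z z₀ f₀)
  (hp : Pair P n X H T Y) (hTS : T ≤ (S : Subgroup G)) (hPhi : ∀ i, ∀ t ∈ T, cj t (Z i) = Z i) (hq : Nat.card F = 4)

include m hp hTS hPhi hq

/-- the central element `u i` -/
theorem exists_u (i : Fin k) : ∃ u ∈ Z i, MD.co M.nat z₀ f₀ i u = (1, 0) ∧ ∀ y ∈ Y, y * u = u * y := by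
  obtain ⟨u, hu, hue⟩ := m.exists_u i
  refine ⟨u, hu, hue, ?_⟩
  have huW : u ∈ Wn M i := D.Z_W i hu
  have hO : o2 Y ≤ T := o2_le_syl hp.syl
  have h1 : ∀ t ∈ T, t * u = u * t := by
    intro t ht
    have hTt := hPhi i t ht
    have htW : t * u * t⁻¹ ∈ Wn M i := conjW (m.nW (hTS ht) hTt) huW
    refine mul_inv_eq_iff_eq_mul.1 (m.co_inj htW huW ?_)
    obtain ⟨l, hl | hl⟩ := m.act4 hq (hTS ht) hTt
    · rw [hl u huW, hue]
      ext <;> simp
    · rw [hl u huW, hue]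
      ext <;> simp
  intro y hy
  have h2 : u ∈ centralizer (Y : Set G) :=
    hp.fix ⟨D.ln.fr.Z_le i hu, mem_centralizer_iff.2 fun o ho => h1 o (hO ho)⟩
  exact mem_centralizer_iff.1 h2 y hy

/-- the structure `Thr` -/
theorem thr (hL : ∀ i, L i ≤ X) (hD : centralizer (ZT n : Set G) ≤ X)
    (hN : normalizer (BT n : Set G) ≤ X) {u : Fin k → G} (hu : ∀ i, u i ∈ Z i)
    (hue : ∀ i, MD.co M.nat z₀ f₀ i (u i) = (1, 0)) (huY : ∀ i, ∀ y ∈ Y, y * u i = u i * y) :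
    Thr Y T X (Wn M) Z u (MD.co M.nat z₀ f₀) where
  card := hq
  syl := hp.syl
  TM := ((lb n).two_le hp.syl.2.1 hp.BT).trans hN
  co := fun i => m.toCo (hu i) (hue i)
  TN := fun i t ht => m.nW (hTS ht) (hPhi i t ht)
  act := fun i t ht => m.act4 hq (hTS ht) (hPhi i t ht)
  full := fun i l => by
    obtain ⟨b, hb, h1⟩ := m.full i l
    exact ⟨b, hp.BT hb, h1⟩
  sl := sl D m hL (le_normalizer.trans hN)
  NM := fun g hg => by
    have h1 : g ∈ normalizer (ZT n : Set G) := by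
      have h2 : ZT n = ⨆ i, Z i := le_antisymm (ZL_le D) (iSup_le D.ln.fr.Z_le)
      rw [mem_normalizer_iff_cj, h2, Swap.cj_iSup]
      exact iSup_congr hg
    exact ((lb n).norm_zj_le.trans (sup_le hD hN)) h1
  Xu := huY
  fix := fun i hi x hx z hz => by
    have h2 : z ∈ centralizer (Y : Set G) :=
      hp.fix ⟨D.ln.fr.Z_le i hz, mem_centralizer_iff.2 fun o ho => hi o ho z hz⟩
    exact mem_centralizer_iff.1 h2 x hx

/-- the structure `OneF` for the index `i` -/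
theorem oneF (hfam : FamF P n T Y) (hD : centralizer (ZT n : Set G) ≤ X)
    (hN : normalizer (BT n : Set G) ≤ X) {i : Fin k} {u : G} (hu : u ∈ Z i)
    (hue : MD.co M.nat z₀ f₀ i u = (1, 0)) (huY : ∀ y ∈ Y, y * u = u * y) :
    ∃ 𝓐 : Set (Subgroup G), OneF F Y T 𝓐 (Wn M i) (Z i) u (MD.co M.nat z₀ f₀ i) := by
  have hZM : normalizer (ZT n : Set G) ≤ X := (lb n).norm_zj_le.trans (sup_le hD hN)
  have hTM : T ≤ X := ((lb n).two_le hp.syl.2.1 hp.BT).trans hN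
  obtain ⟨𝓐, hfam, hnJ, hA⟩ := hfam
  have hVel := elab_V D.ln hp
  have hUV : Wn M i ≤ zl (S : Subgroup G) P := D.ln.fr.WV i
  have hLV : NoFF.Basic.V (Wn M i) Y ≤ NoFF.Basic.V (zl (S : Subgroup G) P) Y :=
    NoFF.Basic.V_le fun f hf => (cj_mono f hUV).trans (NoFF.Basic.Z_le_V hf)
  have hUO : Wn M i ≤ o2 Y := hUV.trans hp.VO
  have hUF : Wn M i ≤ Y := hUO.trans (o2_le Y)
  have hLF : NoFF.Basic.V (Wn M i) Y ≤ Y := by
    refine NoFF.Basic.V_le fun f hf => ?_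
    have := cj_mono f hUF
    rwa [cj_eq_of_mem_normalizer (le_normalizer hf)] at this
  have hel := Swap.elab_mono hVel hLV
  have hlin : ∀ b ∈ BT n, b ∈ T → ∃ l, Lin (MD.co M.nat z₀ f₀ i) (Wn M i) l b := by
    intro b hb hbT
    obtain ⟨l, hl | hl⟩ := m.act4 hq (hTS hbT) (hPhi i b hbT)
    · exact ⟨l, hl⟩
    · exfalso
      obtain ⟨v, hv, hve⟩ : ∃ v ∈ Z i, ∀ x : F, x = (MD.co M.nat z₀ f₀ i v).1 → x * x ≠ x := by
        have h4 : ∃ w : F, w ^ 2 = w + 1 := FourF.exists_w hq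
        obtain ⟨w, hw⟩ := h4
        obtain ⟨v, hv, hve⟩ := m.co_surj i (w, 0)
        refine ⟨v, m.co_Z.2 ⟨hv, by rw [hve]⟩, ?_⟩
        rintro x rfl h5
        rw [hve, ← pow_two, hw] at h5
        simp at h5
      have h1 := hl v (D.Z_W i hv)
      have h2 : b * v * b⁻¹ = v := by
        rw [D.cB hb (D.ln.fr.Z_le i hv)]; group
      have h3 := (m.co_Z.1 hv).2
      rw [h2] at h1
      have h4 := congrArg Prod.fst h1
      simp only [h3, mul_zero, add_zero] at h4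
      exact hve _ rfl h4.symm
  refine ⟨𝓐, ?_⟩
  exact
  { cardK := hq
    TU := fun t ht => m.nW (hTS ht) (hPhi i t ht)
    Uc := fun v hv w hw => D.ln.fr.Vc (m.WV hv) (m.WV hw)
    U2 := fun v hv => by
      rw [← pow_two]
      exact SQ1.Bau.elem_sq D.ln.fr.el v (m.WV hv)
    uU := D.Z_W i hu
    eu := hue
    ZU := D.Z_W i
    mul := fun v hv w hw => m.co_mul (m.WV hv) (m.WV hw)
    inj := (m.toCo hu hue).ker
    surj := m.co_surj i
    memZ := fun v hv => by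
      rw [(m.toCo hu hue).memZ]
      exact ⟨fun h => h.2, fun h => ⟨hv, h⟩⟩
    act := fun t ht => by
      obtain ⟨l, hl | hl⟩ := m.act4 hq (hTS ht) (hPhi i t ht)
      · exact ⟨l, Or.inl hl⟩
      · refine ⟨l, Or.inr fun v hv => ?_⟩
        rw [hl v hv]
        simp only [pow_two]
    syl := hp.syl
    par := hp.minPar hZM
    UO := hUO
    comm := fun x hx y hy => SQ1.Bau.elem_comm hel x hx y hy
    sq := fun x hx => by
      rw [← pow_two]
      exact SQ1.Bau.elem_sq hel x hx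
    uF := huY
    fam := hfam _ hel hLF OmThm.XD.X_le_normalizer_W hLV
    nJ := hnJ
    lin := fun A hA' hAT a ha => hlin a ((hA A hA' hAT).1 ha) (hAT ha)
    full := fun l => by
      obtain ⟨b, hb, h1⟩ := m.full i l
      exact ⟨b, hp.BT hb, h1⟩ }

end core

/-- **(4F) at the levels** -/
theorem _root_.Cfsg.Agent.Omega.OM.SWT.Dt.case_four {X H T Y : Subgroup G} (hp : Pair P n X H T Y)
    (hTS : T ≤ (S : Subgroup G)) (hfam : FamF P n T Y) (hL : ∀ i, L i ≤ X)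
    (hD : centralizer (ZT n : Set G) ≤ X) (hN : normalizer (BT n : Set G) ≤ X)
    (hPhi : ∀ i, i ∈ Phi Z T) (hq : Nat.card F = 4) : False := by
  obtain ⟨z₀, f₀, m⟩ := D.exists_md
  have hZ : ∀ i, ∀ t ∈ T, cj t (Z i) = Z i := fun i t ht => hPhi i t ht
  choose u hu hue huY using exists_u D m hp hTS hZ hq
  have ht := thr D m hp hTS hZ hq hL hD hN hu hue huY
  refine hp.nM (ht.le fun i => ?_)
  obtain ⟨𝓐, h1⟩ := oneF D m hp hTS hZ hq hfam hD hN (hu i) (hue i) (huY i)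
  have hfix : o2 Y ≤ centralizer (Z i : Set G) → Y ≤ centralizer (Z i : Set G) := by
    intro hi x hx
    refine mem_centralizer_iff.2 fun z hz => ?_
    have h3 : z ∈ centralizer (Y : Set G) :=
      hp.fix ⟨D.ln.fr.Z_le i hz, mem_centralizer_iff.2 fun o ho => (mem_centralizer_iff.1 (hi ho) z hz).symm⟩
    exact (mem_centralizer_iff.1 h3 x hx).symm
  rcases h1.main hfix with h2 | h2
  · right
    intro x hx z hz
    exact (mem_centralizer_iff.1 (h2 hx) z hz).symm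
  · exact Or.inl h2

end Cfsg.Agent.Omega.OM.SWT.CaseFour

end
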