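import Cfsg.Agent.Mrg.Omega.OM.Lev.GSym
import Cfsg.Agent.Mrg.Omega.OM.Lev.FixPt
import Cfsg.Agent.Mrg.Omega.OM.SWQ.CostOne
import Cfsg.Agent.Mrg.Omega.OM.SWQ.Dt
import Cfsg.Agent.Mrg.Omega.NO3S.EThree.Frame
import Cfsg.Agent.Mrg.Omega.OM.SWT.Base

-- merged: Cfsg.Agent.Mrg.Omega.OM.SWT.OneA
section

/-!
# THEOREM YQ (helper334 #23847), CASE I, without levels

The pair `(T, F)` with `C₀ = C_{Z_J}(T)` maximal alone: `C_G(X) ≤ N` for `C₀ < X ≤ Z_J`; all groups are in `C_G(C₀)`.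

* `tv` : `v ∈ W j - Z j`, `z ∈ Z j` : `v z = v ^ u` with `u ∈ O`;
* `PrA` : the pair; `PrA.cen_mem`, `PrA.ti`; `PrA.caseOne` : `T` normalises all `Z i` if `q ≥ 4`.
-/

set_option autoImplicit false
set_option linter.unusedSectionVars false

namespace Cfsg.Agent.Omega.OM.SWT

open Subgroup Cfsg Cfsg.Agent.ZN.ChoiceBase Cfsg.Agent.ZN.ChoiceSit
open Cfsg.Agent.ZN (jj zj bau zc zl o2)
open Cfsg.Agent.Omega.NO3S.EThree.Frame (Bg Fg)
open Cfsg.Agent.Omega.OM.Lev.Uni (FrL Best)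
open Cfsg.Agent.Omega.OM.SWQ (exists_fix cost_blocks)
open Cfsg.Agent.Omega.OM.SWQ.ModQ (root)
open Cfsg.Agent.Omega.OM.Swap.Fam (Fm)
open Cfsg.Agent.Omega.OmThm

universe u

variable {G : Type u} [Group G] [Finite G]

section frl

variable {ι : Type*} {B Q V X ZJ : Subgroup G} {L W Z C A : ι → Subgroup G} {q : ℕ}
  (h : FrL B Q V X ZJ L W Z C A q)
include h

/-- (TV) -/
theorem tv {O : Subgroup G} {j : ι} (hO : ∀ a ∈ A j, ∀ o ∈ O, a * o * a⁻¹ ∈ O) {o : G} (ho : o ∈ O)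
    (hmv : cj o⁻¹ (W j) ≤ C j) {v z : G} (hv : v ∈ W j) (hvZ : v ∉ Z j) (hz : z ∈ Z j) :
    ∃ u ∈ O, u * v * u⁻¹ = z * v := by
  obtain ⟨a, ha, e⟩ := root h hv hvZ hz
  have he : o * a⁻¹ * o⁻¹ * a ∈ O := by
    have h1 := hO a⁻¹ (inv_mem ha) o⁻¹ (inv_mem ho)
    rw [inv_inv] at h1
    have h2 := mul_mem ho h1
    have e1 : o * (a⁻¹ * o⁻¹ * a) = o * a⁻¹ * o⁻¹ * a := by group
    rwa [e1] at h2
  have hav : a * v * a⁻¹ ∈ W j := (h.blk j).BV (h.AB j ha) hv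
  have h1 : a * (o⁻¹ * (a * v * a⁻¹) * o) = o⁻¹ * (a * v * a⁻¹) * o * a := by
    refine h.AC j a ha _ (hmv ?_)
    refine ⟨a * v * a⁻¹, hav, ?_⟩
    show o⁻¹ * (a * v * a⁻¹) * o⁻¹⁻¹ = o⁻¹ * (a * v * a⁻¹) * o
    rw [inv_inv]
  refine ⟨o * a⁻¹ * o⁻¹ * a, he, ?_⟩
  have e1 : o * a⁻¹ * o⁻¹ * a * v * (o * a⁻¹ * o⁻¹ * a)⁻¹ =
      o * (a⁻¹ * (o⁻¹ * (a * v * a⁻¹) * o * a)) * o⁻¹ := by group
  rw [e1, ← h1, ← e]; group

end frl

/-- The pair `(T, F)`, `C_G(X) ≤ N` for `C_{Z_J}(T) < X ≤ Z_J`. -/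
structure PrA (B V ZJ T F N : Subgroup G) : Prop where
  F1 : ∀ g : G, cj g B ≤ N → g ∈ N
  syl : Syl T F
  BT : B ≤ T
  TN : T ≤ N
  nN : ¬ F ≤ N
  min : ∀ K : Subgroup G, T ≤ K → K < F → K ≤ N
  VO : V ≤ o2 F
  fix : ZJ ⊓ centralizer (o2 F : Set G) ≤ centralizer (F : Set G)
  cen : ∀ Y : Subgroup G, Y ≤ ZJ → ZJ ⊓ centralizer (T : Set G) < Y → centralizer (Y : Set G) ≤ N

namespace PrA

variable {S : Sylow 2 G} {P : Subgroup G} {ι : Type} {B ZJ : Subgroup G} {L W Z C A : ι → Subgroup G} {q : ℕ}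
  {T F N : Subgroup G}

section basic

variable {V : Subgroup G} (p : PrA B V ZJ T F N)
include p

theorem OT : o2 F ≤ T := o2_le_syl p.syl

theorem TF : T ≤ F := p.syl.1

/-- `F` centralises `C₀`. -/
theorem FC : F ≤ centralizer ((ZJ ⊓ centralizer (T : Set G) : Subgroup G) : Set G) := by
  rw [le_centralizer_iff]
  exact fun x hx => p.fix ⟨hx.1, centralizer_le (by exact_mod_cast p.OT) hx.2⟩

/-- **(b)** -/
theorem mem_of_conj (hBZ : ∀ b ∈ B, ∀ z ∈ ZJ, b * z = z * b) {f x : G} (hf : f ∈ F) (hx : x ∈ ZJ)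
    (hx0 : x ∉ centralizer (T : Set G)) (hfx : f * x * f⁻¹ ∈ ZJ) : f ∈ N := by
  have h1 : centralizer ((ZJ ⊓ centralizer (T : Set G) ⊔ zpowers x : Subgroup G) : Set G) ≤ N := by
    refine p.cen _ (sup_le inf_le_left (by rw [zpowers_le]; exact hx)) ?_
    refine lt_of_le_of_ne le_sup_left fun e => hx0 ?_
    have h2 : x ∈ ZJ ⊓ centralizer (T : Set G) := by
      rw [e]
      exact mem_sup_right (mem_zpowers x)
    exact h2.2
  have h2 : cj f⁻¹ B ≤ N := by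
    refine le_trans ?_ h1
    rw [le_centralizer_iff]
    refine sup_le (fun y hy => ?_) ?_
    · rw [mem_centralizer_iff]
      intro c hc
      rw [SetLike.mem_coe, mem_cj, inv_inv] at hc
      have h3 := hBZ _ hc y hy.1
      have h4 := mem_centralizer_iff.1 (p.FC hf) y hy
      have e1 : c * y = f⁻¹ * (f * c * f⁻¹ * (f * y)) := by group
      rw [e1, ← h4]
      have e2 : f⁻¹ * (f * c * f⁻¹ * (y * f)) = f⁻¹ * (f * c * f⁻¹ * y) * f := by group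
      rw [e2, h3]
      have e3 : f⁻¹ * (y * (f * c * f⁻¹)) * f = f⁻¹ * (y * f) * c := by group
      rw [e3, h4]
      group
    · rw [zpowers_le, mem_centralizer_iff]
      intro c hc
      rw [SetLike.mem_coe, mem_cj, inv_inv] at hc
      have h3 := hBZ _ hc _ hfx
      have h4 := congrArg (fun t => f⁻¹ * t * f) h3
      have e1 : f⁻¹ * (f * c * f⁻¹ * (f * x * f⁻¹)) * f = c * x := by group
      have e2 : f⁻¹ * (f * x * f⁻¹ * (f * c * f⁻¹)) * f = x * c := by group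
      rw [← e1, ← e2]
      exact h4
  have h3 := inv_mem (p.F1 _ h2)
  rwa [inv_inv] at h3

end basic

section bg

variable [Finite ι] (h : Bg S P B ZJ L W Z C q)
include h

omit [Finite ι] in
theorem C_cj {i : ι} {l : G} (hl : l ∈ P) (hlc : l ∈ centralizer (C i : Set G)) (j : ι) : cj l (C j) = C j := by
  obtain ⟨σ, hσ⟩ := h.perm l hl
  have h1 : σ j = j := h.W_inj ((hσ j).1.symm.trans (h.fix hl hlc j))
  have h2 := (hσ j).2
  rwa [h1] at h2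

/-- every element of `V` is conjugate into `Z_J` by an element which normalises all `W j` -/
theorem exists_conj {y : G} (hy : y ∈ zl (S : Subgroup G) P) :
    ∃ g, (∀ j, cj g (W j) = W j) ∧ g * y * g⁻¹ ∈ ZJ := by
  classical
  have := Fintype.ofFinite ι
  have key : ∀ s : Finset ι, ∃ g, (∀ j, cj g (W j) = W j) ∧ g * y * g⁻¹ ∈ zl (S : Subgroup G) P ∧
      ∀ i ∈ s, ∃ z ∈ Z i, ∃ c ∈ C i, g * y * g⁻¹ = z * c := by
    intro s
    induction s using Finset.induction_on with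
    | empty => exact ⟨1, fun j => cj_one _, by simpa using hy, fun i hi => absurd hi (Finset.notMem_empty i)⟩
    | insert i s hi ih =>
      obtain ⟨g, hg, hgV, hgs⟩ := ih
      obtain ⟨w, hw, c, hc, e⟩ := h.fr.WC i _ hgV
      by_cases hw1 : w = 1
      · refine ⟨g, hg, hgV, fun j hj => ?_⟩
        rcases Finset.mem_insert.1 hj with rfl | hj
        · exact ⟨1, one_mem _, c, hc, by rw [e, hw1]⟩
        · exact hgs j hj
      obtain ⟨l, hl, hlc, z, hz, e1⟩ := h.tr i w hw hw1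
      have hlW := h.fix hl hlc
      have hlC := C_cj h hl hlc
      have hli : ∀ K : Subgroup G, cj l K = K → cj l⁻¹ K = K := fun K hK => by
        conv_lhs => rw [← hK]
        rw [cj_inv_cj]
      have hcl : ∀ c ∈ C i, l⁻¹ * c * l = c := fun c hc => by
        have h1 := mem_centralizer_iff.1 hlc c hc
        rw [mul_assoc, h1]; group
      have e0 : ∀ x, (l⁻¹ * g) * x * (l⁻¹ * g)⁻¹ = l⁻¹ * (g * x * g⁻¹) * l := fun x => by group
      have e2 : l⁻¹ * (g * y * g⁻¹) * l = z * c := by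
        rw [e, ← e1]
        have e3 : l⁻¹ * (l * z * l⁻¹ * c) * l = z * (l⁻¹ * c * l) := by group
        rw [e3, hcl c hc]
      refine ⟨l⁻¹ * g, fun j => ?_, ?_, fun j hj => ?_⟩
      · rw [← cj_cj, hg j, hli _ (hlW j)]
      · rw [e0, e2]
        exact mul_mem (h.fr.ZV i hz) (h.fr.CV i hc)
      · rw [e0]
        by_cases hji : j = i
        · subst hji
          exact ⟨z, hz, c, hc, e2⟩
        have hj' : j ∈ s := by
          rcases Finset.mem_insert.1 hj with h1 | h1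
          · exact absurd h1 hji
          · exact h1
        obtain ⟨z', hz', c', hc', e4⟩ := hgs j hj'
        have h5 : l⁻¹ * z' * l = z' := hcl z' (h.fr.WjC i j (Ne.symm hji) ((h.fr.blk j).ZV hz'))
        refine ⟨z', hz', l⁻¹ * c' * l, ?_, ?_⟩
        · rw [← hli _ (hlC j)]
          refine ⟨c', hc', ?_⟩
          show l⁻¹ * c' * l⁻¹⁻¹ = l⁻¹ * c' * l
          rw [inv_inv]
        · have e5 : l⁻¹ * (z' * c') * l = (l⁻¹ * z' * l) * (l⁻¹ * c' * l) := by group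
          rw [e4, e5, h5]
  obtain ⟨g, hg, hgV, hgs⟩ := key Finset.univ
  refine ⟨g, hg, (h.fr.mem_ZJ _).2 ⟨hgV, fun b hb => ?_⟩⟩
  set y' := g * y * g⁻¹ with hy'
  have hbV : b * y' * b⁻¹ ∈ zl (S : Subgroup G) P := (mem_normalizer_iff.1 (h.bau_norm hb) _).1 hgV
  have h1 : b * y' * b⁻¹ * y'⁻¹ = 1 := by
    refine h.fr.C0 _ (mul_mem hbV (inv_mem hgV)) fun i => ?_
    obtain ⟨z, hz, c, hc, e⟩ := hgs i (Finset.mem_univ i)
    have h2 := (h.fr.blk i).cZ b hb z hz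
    have h3 := h.fr.BC i b hb c hc
    have h4 := h.fr.Vc (h.fr.ZV i hz) (h.fr.CV i (mul_mem h3 (inv_mem hc)))
    have e1 : b * (z * c) * b⁻¹ * (z * c)⁻¹ = b * z * b⁻¹ * (b * c * b⁻¹ * c⁻¹) * z⁻¹ := by group
    have e2 : b * z * b⁻¹ = z := by rw [h2]; group
    rw [e, e1, e2, h4, mul_inv_cancel_right]
    exact mul_mem h3 (inv_mem hc)
  have h2 := mul_inv_eq_one.1 h1
  exact mul_inv_eq_iff_eq_mul.1 h2

end bg

section ti

variable [Finite ι] (h : Bg S P B ZJ L W Z C q)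
include h

omit [Finite ι] in
theorem exists_Z (i : ι) : ∃ z ∈ Z i, z ≠ 1 := by
  by_contra hcon
  push Not at hcon
  exact h.Z_ne i ((eq_bot_iff_forall _).2 hcon)

omit [Finite ι] in
theorem Z_one {i j : ι} (hij : i ≠ j) {x : G} (hi : x ∈ Z i) (hj : x ∈ Z j) : x = 1 := by
  have h3 : x ∈ Z i ⊓ Z j := ⟨hi, hj⟩
  rwa [h.Z_disj hij, mem_bot] at h3

variable (p : PrA B (zl (S : Subgroup G) P) ZJ T F N)
include p

omit [Finite ι] in
theorem not_C {r : Set ι} (hmv : ∀ i ∈ r, ∃ o ∈ o2 F, ∃ j, j ≠ i ∧ cj o (Z i) = Z j) {i : ι} (hi : i ∈ r) {x : G}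
    (hx : x ∈ Z i) (hx1 : x ≠ 1) : x ∉ centralizer (T : Set G) := by
  intro hc
  obtain ⟨o, ho, j, hj, e⟩ := hmv i hi
  have h1 : o * x * o⁻¹ = x := by
    rw [mem_centralizer_iff.1 hc o (p.OT ho)]; group
  have h2 : x ∈ Z j := by
    rw [← e]
    exact ⟨x, hx, h1⟩
  exact hx1 (Z_one h hj h2 hx)

omit [Finite ι] in
/-- (b) for `x ∈ Z i` -/
theorem mem_of_Z {r : Set ι} (hmv : ∀ i ∈ r, ∃ o ∈ o2 F, ∃ j, j ≠ i ∧ cj o (Z i) = Z j) {i : ι} (hi : i ∈ r)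
    {f x : G} (hf : f ∈ F) (hx : x ∈ Z i) (hx1 : x ≠ 1) (hfx : f * x * f⁻¹ ∈ ZJ) : f ∈ N :=
  p.mem_of_conj (fun b hb z hz => ((h.fr.mem_ZJ z).1 hz).2 b hb) hf (h.fr.Z_le i hx) (not_C h p hmv hi hx hx1) hfx

omit [Finite ι] in
/-- (H1) -/
theorem h1 {r : Set ι} (hmv : ∀ i ∈ r, ∃ o ∈ o2 F, ∃ j, j ≠ i ∧ cj o (Z i) = Z j) {i : ι} (hi : i ∈ r) {f : G}
    (hf : f ∈ F) (hfz : ∀ z ∈ Z i, f * z = z * f) : f ∈ N := by
  obtain ⟨z, hz, hz1⟩ := exists_Z h i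
  refine mem_of_Z h p hmv hi hf hz hz1 ?_
  rw [hfz z hz, mul_inv_cancel_right]
  exact h.fr.Z_le i hz

/-- **(TI)** -/
theorem ti {X : Subgroup G} (hF : FrL B (o2 P) (zl (S : Subgroup G) P) X ZJ L W Z C A q) (TS : T ≤ (S : Subgroup G))
    {r : Set ι} (hrT : ∀ t ∈ T, ∀ i j, cj t (W i) = W j → i ∈ r → j ∈ r)
    (hmv : ∀ i ∈ r, ∃ o ∈ o2 F, ∃ j, j ≠ i ∧ cj o (Z i) = Z j) {i : ι} (hi : i ∈ r) {x : G} (hx : x ∈ W i)
    (hx1 : x ≠ 1) {f : G} (hf : f ∈ F) (hxf : x ∈ cj f (⨆ j ∈ r, W j)) : f ∈ N := by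
  have hOF : ∀ a ∈ F, ∀ o ∈ o2 F, a * o * a⁻¹ ∈ o2 F := fun a ha o ho =>
    (mem_normalizer_iff.1 (le_normalizer_o2 F ha) o).1 ho
  have hAF : ∀ j, A j ≤ F := fun j => (hF.AB j).trans (p.BT.trans p.TF)
  have hUV : (⨆ j ∈ r, W j) ≤ zl (S : Subgroup G) P := iSup₂_le fun j _ => h.fr.WV j
  -- `T` normalises `U`
  have hTU : ∀ t ∈ T, cj t (⨆ j ∈ r, W j) ≤ ⨆ j ∈ r, W j := by
    intro t ht
    rw [cj_le_iff]
    refine iSup₂_le fun j hj => ?_
    obtain ⟨σ, hσ⟩ := h.perm_S (TS ht)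
    rw [← cj_le_iff, (hσ j).1]
    exact le_iSup₂_of_le (σ j) (hrT t ht j _ (hσ j).1 hj) le_rfl
  -- (TV)
  have hTV : ∀ j ∈ r, ∀ v ∈ W j, v ∉ Z j → ∀ z ∈ Z j, ∃ u ∈ o2 F, u * v * u⁻¹ = z * v := by
    intro j hj v hv hvZ z hz
    obtain ⟨o, ho, k, hk, e⟩ := hmv j hj
    refine tv hF (O := o2 F) (fun a ha o ho => hOF a (hAF j ha) o ho) (inv_mem ho) ?_ hv hvZ hz
    rw [inv_inv, (h.cj_Z_iff (TS (p.OT ho))).1 e]
    exact h.fr.WjC j k (Ne.symm hk)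
  -- some `z ∈ Z i` in `U ^ f`
  obtain ⟨z, hz, hz1, hzf⟩ : ∃ z ∈ Z i, z ≠ 1 ∧ z ∈ cj f (⨆ j ∈ r, W j) := by
    by_cases hxZ : x ∈ Z i
    · exact ⟨x, hxZ, hx1, hxf⟩
    obtain ⟨z, hz, hz1⟩ := exists_Z h i
    obtain ⟨u, hu, e⟩ := hTV i hi x hx hxZ z hz
    refine ⟨z, hz, hz1, ?_⟩
    have h2 : u * x * u⁻¹ ∈ cj f (⨆ j ∈ r, W j) := by
      rw [mem_cj] at hxf ⊢
      have hu' : f⁻¹ * u * f ∈ T := p.OT (by
        have := hOF f⁻¹ (inv_mem hf) u hu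
        rwa [inv_inv] at this)
      have h3 := hTU _ hu' ⟨_, hxf, rfl⟩
      change f⁻¹ * u * f * (f⁻¹ * x * f) * (f⁻¹ * u * f)⁻¹ ∈ _ at h3
      have e1 : f⁻¹ * u * f * (f⁻¹ * x * f) * (f⁻¹ * u * f)⁻¹ = f⁻¹ * (u * x * u⁻¹) * f := by group
      rwa [e1] at h3
    rw [e] at h2
    exact (Subgroup.mul_mem_cancel_right _ hxf).1 h2
  -- `y = z ^ (f⁻¹) ∈ U`
  obtain ⟨y, hy, rfl⟩ := hzf
  change f * y * f⁻¹ ∈ Z i at hz
  change f * y * f⁻¹ ≠ 1 at hz1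
  have hy1 : y ≠ 1 := by
    rintro rfl
    exact hz1 (by group)
  obtain ⟨m, hm, hmy⟩ := exists_conj h (hUV hy)
  obtain ⟨j, hj⟩ := h.fus (i := i) (x := m * y * m⁻¹) (g := m * f⁻¹) hmy (by
    have e1 : (m * f⁻¹)⁻¹ * (m * y * m⁻¹) * (m * f⁻¹) = f * y * f⁻¹ := by group
    rwa [e1])
  have hyW : y ∈ W j := by
    have h2 := (h.fr.blk j).ZV hj
    rw [← hm j] at h2
    rw [mem_cj] at h2
    have e1 : m⁻¹ * (m * y * m⁻¹) * m = y := by group
    rwa [e1] at h2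
  have hjr : j ∈ r := by
    by_contra hcon
    apply hy1
    have h2 : (⨆ i ∈ r, W i) ≤ C j := iSup₂_le fun i hi => h.fr.WjC j i fun e => hcon (e ▸ hi)
    have h3 : y ∈ W j ⊓ C j := ⟨hyW, h2 hy⟩
    rwa [h.fr.dir, mem_bot] at h3
  -- `y ∈ Z j`
  have hyZ : y ∈ Z j := by
    by_contra hyZ
    have key : ∀ ζ ∈ Z j, f * ζ * f⁻¹ ∈ Z i := by
      intro ζ hζ
      by_cases hζ1 : ζ = 1
      · rw [hζ1]; simp
      obtain ⟨u, hu, e⟩ := hTV j hjr y hyW hyZ ζ hζ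
      have hu' : f * u * f⁻¹ ∈ T := p.OT (hOF f hf u hu)
      obtain ⟨σ, hσ⟩ := h.perm_S (TS hu')
      have h2 : f * u * f⁻¹ * (f * y * f⁻¹) * (f * u * f⁻¹)⁻¹ ∈ Z (σ i) := by
        rw [← (hσ i).2.1]
        exact ⟨_, hz, rfl⟩
      have e1 : f * u * f⁻¹ * (f * y * f⁻¹) * (f * u * f⁻¹)⁻¹ = (f * ζ * f⁻¹) * (f * y * f⁻¹) := by
        have e2 : f * u * f⁻¹ * (f * y * f⁻¹) * (f * u * f⁻¹)⁻¹ = f * (u * y * u⁻¹) * f⁻¹ := by group
        rw [e2, e]; group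
      rw [e1] at h2
      by_cases hk : σ i = i
      · rw [hk] at h2
        exact (Subgroup.mul_mem_cancel_right _ hz).1 h2
      exfalso
      -- two components
      have h3 : f * ζ * f⁻¹ ∈ ZJ := by
        have h4 := mul_mem (h.fr.Z_le _ h2) (inv_mem (h.fr.Z_le _ hz))
        rwa [mul_inv_cancel_right] at h4
      obtain ⟨l, hl⟩ := h.fus (i := j) (x := f * ζ * f⁻¹) (g := f) h3 (by
        have e3 : f⁻¹ * (f * ζ * f⁻¹) * f = ζ := by group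
        rwa [e3])
      have h5 : f * ζ * f⁻¹ ≠ 1 := fun e3 => hζ1 (conj_eq_one_iff.1 e3)
      have h6 : (f * ζ * f⁻¹) * (f * y * f⁻¹) ≠ 1 := by
        rw [← e1]
        intro e3
        exact hz1 (conj_eq_one_iff.1 e3)
      by_cases hli : l = i
      · subst hli
        exact h6 (Z_one h hk h2 (mul_mem hl hz))
      · -- the `i`-component of `ζ^f · z`
        have h7 : f * y * f⁻¹ ∈ C i := by
          have h8 : (f * ζ * f⁻¹) * (f * y * f⁻¹) ∈ C i := h.fr.WjC i _ (Ne.symm hk) ((h.fr.blk _).ZV h2)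
          have h9 : f * ζ * f⁻¹ ∈ C i := h.fr.WjC i _ (Ne.symm hli) ((h.fr.blk _).ZV hl)
          exact (Subgroup.mul_mem_cancel_left _ h9).1 h8
        have h8 : f * y * f⁻¹ ∈ W i ⊓ C i := ⟨(h.fr.blk i).ZV hz, h7⟩
        rw [h.fr.dir, mem_bot] at h8
        exact hz1 h8
    have h2 : cj f (Z j) = Z i := by
      refine Subgroup.eq_of_le_of_card_ge ?_ (by rw [card_cj, h.fr.cardZ, h.fr.cardZ])
      rintro _ ⟨ζ, hζ, rfl⟩
      exact key ζ hζ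
    rw [← h2] at hz
    obtain ⟨ζ, hζ, e⟩ := hz
    apply hyZ
    have e1 : f * ζ * f⁻¹ = f * y * f⁻¹ := e
    have e2 : ζ = y := by
      have := congrArg (fun t => f⁻¹ * t * f) e1
      simpa [mul_assoc] using this
    rwa [← e2]
  exact mem_of_Z h p hmv hjr hf hyZ hy1 (h.fr.Z_le i hz)

/-- the support of a conjugate -/
theorem supp {t : G} (ht : t ∈ (S : Subgroup G)) {i j : ι} (e : cj t (Z i) = Z j) (x : G) :
    t * x * t⁻¹ ∈ C j ↔ x ∈ C i := by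
  obtain ⟨σ, hσ⟩ := h.perm_S ht
  have h1 : j = σ i := h.Z_inj (e.symm.trans (hσ i).2.1)
  subst h1
  rw [← (hσ i).2.2, mem_cj]
  have e1 : t⁻¹ * (t * x * t⁻¹) * t = x := by group
  rw [e1]

/-- **CASE I.** -/
theorem caseOne {X : Subgroup G} (hF : FrL B (o2 P) (zl (S : Subgroup G) P) X ZJ L W Z C A q)
    (TS : T ≤ (S : Subgroup G)) (hq : 4 ≤ q)
    (hlam : IsElementaryAbelian 2 (NoFF.Basic.V (zl (S : Subgroup G) P) F))
    (hfam : ∃ 𝓐 : Set (Subgroup G),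
      (∀ Λ : Subgroup G, IsElementaryAbelian 2 Λ → Λ ≤ F → F ≤ normalizer (Λ : Set G) →
        Λ ≤ NoFF.Basic.V (zl (S : Subgroup G) P) F → Fm F Λ 𝓐) ∧
      (∃ X ∈ 𝓐, X ≤ T ∧ ¬ X ≤ o2 F) ∧
      ∀ E ∈ 𝓐, E ≤ T → E ≤ B ∧
        ((∀ a ∈ E, ∀ v ∈ zl (S : Subgroup G) P, a * v = v * a) ∨ Best X E)) :
    ∀ i, ∀ t ∈ T, cj t (Z i) = Z i := by
  classical
  by_contra hcon
  push Not at hcon
  obtain ⟨i₀, t₀, ht₀, hne₀⟩ := hcon
  obtain ⟨𝓐, hfam, hnJ, hA⟩ := hfam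
  have hO : o2 F ≤ T := p.OT
  have hTF : T ≤ F := p.syl.1
  -- the orbit
  set r : Set ι := {j | ∃ o ∈ o2 F, cj o (Z i₀) = Z j} with hr
  have hi₀r : i₀ ∈ r := ⟨1, one_mem _, cj_one _⟩
  have hrO : ∀ o ∈ o2 F, ∀ i j, cj o (Z i) = Z j → (i ∈ r ↔ j ∈ r) := by
    intro o ho i j e
    constructor
    · rintro ⟨o', ho', e'⟩
      exact ⟨o * o', mul_mem ho ho', SwapL.cj_mul_eq e' e⟩
    · rintro ⟨o', ho', e'⟩
      exact ⟨o⁻¹ * o', mul_mem (inv_mem ho) ho', SwapL.cj_mul_eq e' (SwapL.cj_inv_eq e)⟩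
  have hperm : ∀ t ∈ T, ∀ i, ∃ j, cj t (Z i) = Z j := by
    intro t ht i
    obtain ⟨σ, hσ⟩ := h.perm_S (TS ht)
    exact ⟨σ i, (hσ i).2.1⟩
  -- an element of `Z_J` with support `r` centralised by `F`
  obtain ⟨x, hxr, hx1, hxO⟩ : ∃ x ∈ (⨆ j ∈ r, Z j : Subgroup G), x ≠ 1 ∧ x ∈ centralizer (o2 F : Set G) := by
    refine exists_fix (isPGroup_o2 F) ?_ ?_ ?_
    · exact h.bau_two.to_le (iSup₂_le fun j _ => (h.fr.ZV j).trans h.fr.VB)
    · intro e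
      have h1 : Z i₀ ≤ ⊥ := by
        rw [← e]
        exact le_iSup₂_of_le i₀ hi₀r le_rfl
      exact h.Z_ne i₀ (le_bot_iff.1 h1)
    · intro o ho
      rw [mem_normalizer_iff_cj]
      refine Subgroup.eq_of_le_of_card_ge ?_ (by rw [card_cj])
      rw [cj_le_iff]
      refine iSup₂_le fun j hj => ?_
      obtain ⟨l, hl⟩ := hperm o (hO ho) j
      rw [← cj_le_iff, hl]
      exact le_iSup₂_of_le l ((hrO o ho j l hl).1 hj) le_rfl
  have hxJ : x ∈ ZJ := (iSup₂_le fun j _ => h.fr.Z_le j : (⨆ j ∈ r, Z j : Subgroup G) ≤ ZJ) hxr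
  have hxF : ∀ f ∈ F, f * x = x * f := fun f hf =>
    mem_centralizer_iff.1 (p.fix ⟨hxJ, hxO⟩) f hf
  have hxfix : ∀ f ∈ F, f * x * f⁻¹ = x := fun f hf => by rw [hxF f hf]; group
  have hxs : ∀ i, x ∈ C i ↔ i ∉ r := by
    have h1 : ∀ i, i ∉ r → x ∈ C i := by
      intro i hi
      have h2 : (⨆ j ∈ r, Z j : Subgroup G) ≤ C i :=
        iSup₂_le fun j hj => (h.fr.blk j).ZV.trans (h.fr.WjC i j fun e => hi (e ▸ hj))
      exact h2 hxr
    obtain ⟨j₁, hj₁⟩ : ∃ j, x ∉ C j := by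
      by_contra hcon
      push Not at hcon
      exact hx1 (h.fr.C0 x (h.fr.ZJV hxJ) hcon)
    have hj₁r : j₁ ∈ r := by
      by_contra h2
      exact hj₁ (h1 j₁ h2)
    intro i
    refine ⟨fun h2 hi => ?_, h1 i⟩
    obtain ⟨o, ho, e⟩ := hi
    obtain ⟨o', ho', e'⟩ := hj₁r
    have ho'' : o' * o⁻¹ ∈ o2 F := mul_mem ho' (inv_mem ho)
    have e2 : cj (o' * o⁻¹) (Z i) = Z j₁ := SwapL.cj_mul_eq (SwapL.cj_inv_eq e) e'
    have h3 := (supp h p (TS (hO ho'')) e2 x).2 h2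
    rw [hxfix _ (hTF (hO ho''))] at h3
    exact hj₁ h3
  -- `T` stabilises `r`
  have hrT : ∀ t ∈ T, ∀ i j, cj t (Z i) = Z j → i ∈ r → j ∈ r := by
    intro t ht i j e hi
    by_contra hj
    have h1 := (supp h p (TS ht) e x).1
    rw [hxfix t (hTF ht)] at h1
    exact (hxs i).1 (h1 ((hxs j).2 hj)) hi
  -- an element of `O₂(F)` moves `i₀`
  obtain ⟨j₀, hj₀r, hij₀⟩ : ∃ j₀ ∈ r, i₀ ≠ j₀ := by
    obtain ⟨j, hj⟩ := hperm t₀ ht₀ i₀
    exact ⟨j, hrT t₀ ht₀ i₀ j hj hi₀r, fun e => hne₀ (by rw [hj, ← e])⟩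
  -- every index in `r` is moved by `O₂(F)`
  have hmv : ∀ i ∈ r, ∃ o ∈ o2 F, ∃ j, j ≠ i ∧ cj o (Z i) = Z j := by
    rintro i ⟨o, ho, e⟩
    by_cases h1 : i₀ = i
    · subst h1
      obtain ⟨o', ho', e'⟩ := hj₀r
      exact ⟨o', ho', j₀, hij₀.symm, e'⟩
    · exact ⟨o⁻¹, inv_mem ho, i₀, h1, SwapL.cj_inv_eq e⟩
  have hrTW : ∀ t ∈ T, ∀ i j, cj t (W i) = W j → i ∈ r → j ∈ r := fun t ht i j e =>
    hrT t ht i j ((h.cj_Z_iff (TS ht)).2 e)
  have hTI : ∀ i ∈ r, ∀ x ∈ W i, x ≠ 1 → ∀ f ∈ F, x ∈ cj f (⨆ j ∈ r, W j) → f ∈ N :=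
    fun i hi x hx hx1 f hf hxf => ti h p hF TS hrTW hmv hi hx hx1 hf hxf
  have hWU : ∀ i ∈ r, W i ≤ ⨆ j ∈ r, W j := fun i hi => le_iSup₂_of_le i hi le_rfl
  have hNW : ∀ i ∈ r, ∀ x ∈ W i, x ≠ 1 → ∀ f ∈ F, f * x = x * f → f ∈ N := by
    intro i hi x hx hx1 f hf hfx
    refine hTI i hi x hx hx1 f hf ?_
    rw [mem_cj]
    have e : f⁻¹ * x * f = x := by rw [mul_assoc, ← hfx]; group
    rw [e]
    exact hWU i hi hx
  -- the situation
  have hWV : ∀ i, W i ≤ zl (S : Subgroup G) P := h.fr.WV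
  have hsup : (⨆ j : r, W j) = ⨆ j ∈ r, W j := iSup_subtype' (f := fun j (_ : j ∈ r) => W j) |>.symm
  have hUV : (⨆ j : r, W j) ≤ zl (S : Subgroup G) P := iSup_le fun j => hWV j
  have hLV : NoFF.Basic.V (⨆ j : r, W j) F ≤ NoFF.Basic.V (zl (S : Subgroup G) P) F :=
    NoFF.Basic.V_le fun f hf => (cj_mono f hUV).trans (NoFF.Basic.Z_le_V hf)
  have hΛ : IsElementaryAbelian 2 (NoFF.Basic.V (⨆ j : r, W j) F) := Swap.elab_mono hlam hLV
  have hUF : (⨆ j : r, W j) ≤ F := hUV.trans (p.VO.trans (o2_le F))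
  have hTperm : ∀ t ∈ T, ∀ i : r, ∃ j : r, cj t (W i) = W j := by
    rintro t ht ⟨i, hi⟩
    obtain ⟨σ, hσ⟩ := h.perm_S (TS ht)
    exact ⟨⟨σ i, hrT t ht i _ (hσ i).2.1 hi⟩, (hσ i).1⟩
  have hOne : Swap.Fam.One F T (F ⊓ N) 𝓐 (⨆ j : r, W j) (fun j : r => W j) (fun j : r => Z j) :=
    { syl := p.syl
      TF₀ := le_inf hTF p.TN
      F₀F := lt_of_le_of_ne inf_le_left fun e => p.nN (inf_eq_left.1 e)
      max := fun K hTK hKF => le_inf hKF.le (p.min K hTK hKF)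
      fam := hfam _ hΛ (NoFF.Basic.V_le fun f hf => by
        have := cj_mono f hUF
        rwa [cj_eq_of_mem_normalizer (le_normalizer hf)] at this) OmThm.XD.X_le_normalizer_W hLV
      nJ := hnJ
      ne := ⟨⟨i₀, hi₀r⟩⟩
      UO := hUV.trans p.VO
      TU := fun t ht => by
        rw [mem_normalizer_iff_cj]
        refine Subgroup.eq_of_le_of_card_ge ?_ (by rw [card_cj])
        rw [cj_le_iff]
        refine iSup_le fun j => ?_
        obtain ⟨l, hl⟩ := hTperm t ht j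
        rw [← cj_le_iff, hl]
        exact le_iSup (fun j : r => W j) l
      comm := Swap.elab_comm hΛ
      sq := Swap.elab_sq hΛ
      sup := rfl
      H1 := fun i f hf hfz => ⟨hf, h1 h p hmv i.2 hf hfz⟩
      H2 := fun E hE hET i => by
        obtain ⟨hEB, h1 | hbest⟩ := hA E hE hET
        · exact Or.inl fun a ha x hx => h1 a ha x (hWV i hx)
        · exact SWQ.HThree.h2 hF hEB hbest i
      H3 := fun i => by
        obtain ⟨o, ho, j, hj, e⟩ := hmv i i.2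
        have h1 := SWQ.HThree.h3 hF (O := o2 F) (j := (i : ι)) (fun a ha o ho => ?_) (inv_mem ho) ?_
        · exact h1.trans (commutator_mono (le_iSup (fun j : r => W j) i) le_rfl)
        · have h2 : a ∈ F := hTF (p.BT (hF.AB i ha))
          exact (mem_normalizer_iff.1 (le_normalizer_o2 F h2) o).1 ho
        · rw [inv_inv, (h.cj_Z_iff (TS (hO ho))).1 e]
          exact h.fr.WjC i j hj.symm
      H4 := by
        rintro f ⟨hf, hfU⟩
        obtain ⟨z, hz, hz1⟩ := exists_Z h i₀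
        refine ⟨hf, hTI i₀ hi₀r z ((h.fr.blk i₀).ZV hz) hz1 f hf ?_⟩
        rw [← hsup, mem_normalizer_iff_cj.1 hfU, hsup]
        exact hWU i₀ hi₀r ((h.fr.blk i₀).ZV hz) }
  have h16 : ∀ i : r, 16 ≤ Nat.card (W (i : ι)) := fun i => by
    rw [(h.fr.blk i).card, h.fr.cardZ i]
    exact Nat.mul_le_mul hq hq
  have hcost := cost_blocks (T := T) (U := ⨆ j : r, W j) (V := fun j : r => W j) rfl
    (fun x hx y hy => h.fr.Vc (hUV hx) (hUV hy))
    (fun x hx => by rw [← pow_two]; exact SQ1.Bau.elem_sq h.fr.el x (hUV hx)) ?_ hTperm h16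
  · refine hOne.false_of_count ?_ hcost
    rintro x - ⟨hx1, i, hxi⟩ f hf hfx
    exact ⟨hf, hNW i i.2 x hxi hx1 f hf hfx⟩
  · rintro ⟨i, hi⟩ x hx hx'
    have h1 : (⨆ j : r, ⨆ _ : j ≠ ⟨i, hi⟩, W (j : ι)) ≤ C i := by
      refine iSup_le fun j => iSup_le fun hj => ?_
      exact h.fr.WjC i j fun e => hj (Subtype.ext e.symm)
    have h2 : x ∈ W i ⊓ C i := mem_inf.2 ⟨hx, h1 hx'⟩
    rwa [h.fr.dir i, mem_bot] at h2

end ti

end PrA

end Cfsg.Agent.Omega.OM.SWT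

end

-- merged: Cfsg.Agent.Mrg.Omega.OM.SWT.Sel
section

/-!
# THEOREM SWQ over a general top level: the choice of the pair, and CASE I

`H = C_G(Z₁)`, `1 ≠ Z₁ ≤ Ω₁Z(S)`. The pair `(T, F)` is chosen inside `C_G(C₀)`, `Z₁ ≤ C₀ ≤ Z_J` maximal with
`C_G(C₀) ≰ X` (helper334 #23847 (0)): `C_{Z_J}(T) = C₀`, `C_G(Y) ≤ X` for `C₀ < Y ≤ Z_J`. So all groups in play lie in `H`.

* `BM.mono`, `QFix.mono`, `Pair.mono`, `pair_cj`, `comm_of_pair`, `lam`;
* `Sel D X H T F`; `exists_sel`; `Sel.pra`;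
* `phi_univ` : CASE I: `T` normalises all `Z i` (`q ≥ 4`).
-/

set_option autoImplicit false
set_option linter.unusedSectionVars false

namespace Cfsg.Agent.Omega.OM.SWT

open Subgroup Cfsg Cfsg.Agent.ZN.ChoiceBase Cfsg.Agent.ZN.ChoiceSit
open Cfsg.Agent.ZN (jj zj bau zc zl o2)
open Cfsg.Agent.MinSimple.MinParabolic (IsMinPar)
open Cfsg.Agent.Omega.FrameFF (cv)
open Cfsg.Agent.Omega.NO3S.OneLine (NatC)
open Cfsg.Agent.Omega.OM.Lev.Nat

universe u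

variable {G : Type u} [Group G] [Finite G] {S : Sylow 2 G} {P : Subgroup G} {n : LV S}

theorem Quiet.mono {X H H' T Y : Subgroup G} (h : Quiet n X H T Y) (hle : H ≤ H') : Quiet n X H' T Y :=
  ⟨h.syl, h.BT, h.min, h.char2, h.le.trans hle, h.nM, h.nx, h.quiet⟩

theorem BM.mono {X H H' : Subgroup G} (h : BM n X H') (hle : H ≤ H') : BM n X H :=
  fun T Y h1 h2 h3 h4 h5 => h T Y h1 h2 h3 h4 (h5.trans hle)

theorem QFix.mono {X H H' : Subgroup G} (h : QFix n X H') (hle : H ≤ H') : QFix n X H :=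
  fun T Y h1 h2 => h T Y (h1.mono hle) h2

theorem Pair.mono {X H H' T F : Subgroup G} (h : Pair P n X H T F) (hle : H ≤ H') : Pair P n X H' T F := by
  obtain ⟨T₀, Y, h1, h2, h3⟩ := h.inQ
  exact ⟨h.syl, h.BT, h.nM, h.min, h.VO, h.fix, T₀, Y, h1.mono hle, h2, h3⟩

theorem ZT_two (n : LV S) : IsPGroup 2 (ZT n) := (lb n).Bp.to_le (lb n).ZB

theorem zc_S_le (n : LV S) : zc (S : Subgroup G) ≤ ZT n := n.lev.next.zc_le

theorem nx_cj (n : LV S) {m : G} (hm : m ∈ normalizer (BT n : Set G)) : cj m n.nx = n.nx :=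
  cj_eq_of_mem_normalizer (n.lev.next.norm (BT n) (lb n).KB (lb n).BS hm)

theorem isMinPar_cj' {T Y : Subgroup G} (h : IsMinPar T Y) (m : G) : IsMinPar (cj m T) (cj m Y) := by
  obtain ⟨h1, h2, M, h3, h4⟩ := h
  have key : ∀ K, cj m⁻¹ (cj m K) = K := fun K => cj_inv_cj m K
  refine ⟨cj_mono m h1, fun hle => h2 ?_, cj m M, lt_of_le_of_ne (cj_mono m h3.le) fun e => h3.ne ?_,
    fun K h5 h6 => ?_⟩
  · have h5 := cj_mono m⁻¹ hle
    rwa [cj_inv_cj, cj_normalizer, cj_inv_cj] at h5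
  · rw [← key M, e, key]
  · have h7 := h4 (cj m⁻¹ K) (by
      have := cj_mono m⁻¹ h5
      rwa [cj_inv_cj] at this) (lt_of_le_of_ne (by
        have := cj_mono m⁻¹ h6.le
        rwa [cj_inv_cj] at this) fun e => h6.ne (by rw [← e, cj_cj_inv]))
    have h8 := cj_mono m h7
    rwa [cj_cj_inv] at h8

/-- Conjugation by `m ∈ N_G(B) ≤ X`. -/
theorem quiet_conjN {X H T Y : Subgroup G} (h : Quiet n X H T Y) (hN : normalizer (BT n : Set G) ≤ X) {m : G}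
    (hm : m ∈ normalizer (BT n : Set G)) : Quiet n X (cj m H) (cj m T) (cj m Y) := by
  have hX' : cj m⁻¹ X = X := cj_eq_of_mem_normalizer (le_normalizer (inv_mem (hN hm)))
  refine ⟨ZN.CaseTwo.syl_cj m h.syl, ?_, isMinPar_cj' h.min m, ?_, cj_mono m h.le, fun hle => h.nM ?_,
    fun hle => h.nx ?_, ?_⟩
  · have := cj_mono m h.BT
    rwa [cj_eq_of_mem_normalizer hm] at this
  · have := cj_mono m h.char2
    rwa [cj_inf, cj_centralizer, ← o2_cj] at this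
  · have := cj_mono m⁻¹ hle
    rwa [cj_inv_cj, hX'] at this
  · have := cj_mono m⁻¹ hle
    rwa [← o2_cj, cj_inv_cj, nx_cj n (inv_mem hm)] at this
  · have := cj_mono m h.quiet
    rwa [cj_centralizer, ← NO3S.Level.zc_cj] at this

section line

variable {ι : Type} [Finite ι] {L W Z C A : ι → Subgroup G} {q : ℕ}

/-- Pairs are invariant under conjugation by `N_G(B)`. -/
theorem pair_cj (h : Ln P n L W Z C A q) {X H T F : Subgroup G}
    (hN : normalizer (BT n : Set G) ≤ X) (hp : Pair P n X H T F) {m : G}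
    (hm : m ∈ normalizer (BT n : Set G)) : Pair P n X (cj m H) (cj m T) (cj m F) := by
  have hX : cj m X = X := cj_eq_of_mem_normalizer (le_normalizer (hN hm))
  have hX' : cj m⁻¹ X = X := cj_eq_of_mem_normalizer (le_normalizer (inv_mem (hN hm)))
  have hJ := cj_eq_of_mem_normalizer ((lb n).norm_B_le hm)
  obtain ⟨T₀, Y, hY, h1, h2⟩ := hp.inQ
  refine ⟨ZN.CaseTwo.syl_cj m hp.syl, ?_, fun hle => hp.nM ?_, fun K h1 h2 => ?_, ?_, ?_,
    cj m T₀, cj m Y, quiet_conjN hY hN hm, cj_mono m h1, ?_⟩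
  · have := cj_mono m hp.BT
    rwa [cj_eq_of_mem_normalizer hm] at this
  · have := cj_mono m⁻¹ hle
    rwa [cj_inv_cj, hX'] at this
  · have h3 := hp.min (cj m⁻¹ K) (by
      have := cj_mono m⁻¹ h1
      rwa [cj_inv_cj] at this) (by
      have h4 := cj_mono m⁻¹ h2.le
      rw [cj_inv_cj] at h4
      refine lt_of_le_of_ne h4 fun e => h2.ne ?_
      rw [← e, cj_cj_inv])
    have h4 := cj_mono m h3
    rwa [cj_cj_inv, hX] at h4
  · have := cj_mono m hp.VO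
    rwa [(h.norm hm).1, ← o2_cj] at this
  · have := cj_mono m hp.fix
    rwa [cj_inf, hJ, cj_centralizer, cj_centralizer, ← o2_cj] at this
  · have := cj_mono m h2
    rwa [← o2_cj, ← o2_cj] at this

/-- `V` commutes with its conjugates under `F` (any `q`). -/
theorem comm_of_pair (h : Ln P n L W Z C A q) {X H T F : Subgroup G} (hp : Pair P n X H T F) {f : G} (hf : f ∈ F)
    {x y : G} (hx : x ∈ zl (S : Subgroup G) P) (hy : y ∈ zl (S : Subgroup G) P) :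
    x * (f * y * f⁻¹) = f * y * f⁻¹ * x := by
  have hV := hp.VO
  have hTn := two_norm h hp.syl.2.1 hp.BT
  have hO : o2 F ≤ T := o2_le_syl hp.syl
  have hcO : cj f (o2 F) = o2 F := cj_eq_of_mem_normalizer (le_normalizer_o2 F hf)
  have h1 : cj f (zl (S : Subgroup G) P) ≤ normalizer (zl (S : Subgroup G) P : Set G) := by
    have := cj_mono f hV
    rw [hcO] at this
    exact (this.trans hO).trans hTn
  have h2 : zl (S : Subgroup G) P ≤ normalizer ((cj f (zl (S : Subgroup G) P) : Subgroup G) : Set G) := by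
    have h3 := cj_mono f ((hO.trans hTn : o2 F ≤ normalizer (zl (S : Subgroup G) P : Set G)))
    rw [hcO, cj_normalizer] at h3
    exact hV.trans h3
  by_contra hne
  refine h.hyp.noFF ⟨P, P, f, h.hyp.star, h.hyp.star, h2, h1, fun e => hne ?_⟩
  have h4 := commutator_eq_bot_iff_le_centralizer.1 e
  exact (mem_centralizer_iff.1 (h4 hx) (f * y * f⁻¹) ⟨y, hy, rfl⟩).symm

/-- `⟨V ^ F⟩` is elementary abelian. -/
theorem lam (h : Ln P n L W Z C A q) {X H T F : Subgroup G} (hp : Pair P n X H T F) :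
    IsElementaryAbelian 2 (NoFF.Basic.V (zl (S : Subgroup G) P) F) := by
  have hcomm : ∀ f ∈ F, ∀ x ∈ zl (S : Subgroup G) P, ∀ y ∈ zl (S : Subgroup G) P,
      x * (f * y * f⁻¹) = f * y * f⁻¹ * x := fun f hf x hx y hy => comm_of_pair h hp hf hx hy
  have h1 := Swap.elab_iSup (W := fun f : F => cj (f : G) (zl (S : Subgroup G) P)) (fun f f' x hx y hy => ?_)
    fun f x hx => ?_
  · exact Swap.elab_of h1.1 h1.2
  · rw [mem_cj] at hx hy
    have h2 := hcomm ((f : G)⁻¹ * f') (mul_mem (inv_mem f.2) f'.2) _ hx _ hy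
    have e1 : (f : G)⁻¹ * f' * ((f' : G)⁻¹ * y * f') * ((f : G)⁻¹ * f')⁻¹ = (f : G)⁻¹ * y * f := by group
    rw [e1] at h2
    have h3 := congrArg (fun t => (f : G) * t * (f : G)⁻¹) h2
    have e2 : (f : G) * ((f : G)⁻¹ * x * f * ((f : G)⁻¹ * y * f)) * (f : G)⁻¹ = x * y := by group
    have e3 : (f : G) * ((f : G)⁻¹ * y * f * ((f : G)⁻¹ * x * f)) * (f : G)⁻¹ = y * x := by group
    exact e2.symm.trans (h3.trans e3)
  · rw [mem_cj] at hx
    have h2 := SQ1.Bau.elem_sq h.fr.el _ hx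
    rw [pow_two] at h2
    have e : x * x = f * ((f : G)⁻¹ * x * f * ((f : G)⁻¹ * x * f)) * (f : G)⁻¹ := by group
    rw [e, h2]; group

end line

variable {K : Type} [Field K] [Finite K] {k : ℕ}
  {M : NatC K (S : Subgroup G) P (zl (S : Subgroup G) P) (cv (S : Subgroup G) P) k}
  {L Z A : Fin k → Subgroup G}

/-- The chosen pair. -/
structure Sel (D : Dt P n M L Z A) (X H T F : Subgroup G) : Prop where
  pair : Pair P n X H T F
  TS : T ≤ (S : Subgroup G)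
  cen : ∀ Y : Subgroup G, Y ≤ ZT n → ZT n ⊓ centralizer (T : Set G) < Y → centralizer (Y : Set G) ≤ X

theorem Sel.cen2 {D : Dt P n M L Z A} {X H T F : Subgroup G} (s : Sel D X H T F) (_ : ∀ i, i ∈ Phi Z T) :
    ∀ Y : Subgroup G, Y ≤ ZT n → ZT n ⊓ centralizer (T : Set G) < Y → centralizer (Y : Set G) ≤ X := s.cen

/-- **The choice of the pair.** -/
theorem exists_sel (D : Dt P n M L Z A) {X Z₁ : Subgroup G} (hZ : Z₁ ≤ zc (S : Subgroup G)) (hZ1 : Z₁ ≠ ⊥)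
    (hBM : BM n X (centralizer (Z₁ : Set G))) (hQ : QFix n X (centralizer (Z₁ : Set G)))
    (hD : centralizer (ZT n : Set G) ≤ X) (hN : normalizer (BT n : Set G) ≤ X)
    (hM : ¬ centralizer (Z₁ : Set G) ≤ X) : ∃ T F : Subgroup G, Sel D X (centralizer (Z₁ : Set G)) T F := by
  classical
  have hZJ : Z₁ ≤ ZT n := hZ.trans (zc_S_le n)
  have hcS : ∀ z ∈ Z₁, ∀ s ∈ (S : Subgroup G), s * z = z * s := fun z hz => (mem_zc.1 (hZ hz)).2.2
  obtain ⟨C₀, hC⟩ := (Set.toFinite {Y : Subgroup G | Y ≤ ZT n ∧ Z₁ ≤ Y ∧ ¬ centralizer (Y : Set G) ≤ X}).exists_maximal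
    ⟨Z₁, hZJ, le_rfl, hM⟩
  obtain ⟨h1, h2, h3⟩ := hC.prop
  have hmax : ∀ Y : Subgroup G, Y ≤ ZT n → C₀ < Y → centralizer (Y : Set G) ≤ X := by
    intro Y hY hlt
    by_contra hcon
    exact hlt.not_ge (hC.le_of_ge ⟨hY, h2.trans hlt.le, hcon⟩ hlt.le)
  have hC1 : C₀ ≠ ⊥ := fun e => hZ1 (le_bot_iff.1 (e ▸ h2))
  have hle : centralizer (C₀ : Set G) ≤ centralizer (Z₁ : Set G) := centralizer_le (by exact_mod_cast h2)
  have hBH : BT n ≤ centralizer (C₀ : Set G) := (lb n).Bc.trans (centralizer_le (by exact_mod_cast h1))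
  obtain ⟨T, F, hp⟩ := exists_pair D.ln (hBM.mono hle) (hQ.mono hle) hD hN hBH
    (Swap.char2_cent D.ln.hyp.ctx.char2 ((ZT_two n).to_le h1) hC1) h3
  -- `C_{Z_J}(T) = C₀`
  have hTC : ZT n ⊓ centralizer (T : Set G) = C₀ := by
    have h4 : C₀ ≤ ZT n ⊓ centralizer (T : Set G) := le_inf h1 (le_centralizer_iff.1 (hp.syl.1.trans hp.le))
    by_contra hne
    apply hp.nM
    refine le_trans ?_ (hmax _ inf_le_left (lt_of_le_of_ne h4 (Ne.symm hne)))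
    rw [le_centralizer_iff]
    exact fun x hx => hp.fix ⟨hx.1, centralizer_le (by exact_mod_cast o2_le_syl hp.syl) hx.2⟩
  -- conjugate into `S`
  have hsyl : Syl (S : Subgroup G) (normalizer (BT n : Set G)) :=
    ZN.CaseTwo.syl_of_sylow S ((lb n).two_le S.isPGroup' D.BS)
  obtain ⟨T₁, hT₁, hTT₁⟩ := exists_syl hp.syl.2.1 ((lb n).two_le hp.syl.2.1 hp.BT)
  obtain ⟨m, hm, hmS⟩ := syl_conj hT₁ hsyl
  have hTS : cj m T ≤ (S : Subgroup G) := by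
    rw [← hmS]
    exact cj_mono m hTT₁
  have hJ := cj_eq_of_mem_normalizer ((lb n).norm_B_le hm)
  have hJ' := cj_eq_of_mem_normalizer ((lb n).norm_B_le (inv_mem hm))
  have hX : cj m X = X := cj_eq_of_mem_normalizer (le_normalizer (hN hm))
  have hTC' : ZT n ⊓ centralizer ((cj m T : Subgroup G) : Set G) = cj m C₀ := by
    rw [← hTC, cj_inf, cj_centralizer, hJ]
  refine ⟨cj m T, cj m F, (pair_cj D.ln hN hp hm).mono ?_, hTS, fun Y hY hlt => ?_⟩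
  · rw [cj_centralizer, ← hTC']
    refine centralizer_le ?_
    exact_mod_cast le_inf hZJ fun z hz => mem_centralizer_iff.2 fun t ht => hcS z hz t (hTS ht)
  · rw [hTC'] at hlt
    have h4 := hmax (cj m⁻¹ Y) (by
      have := cj_mono m⁻¹ hY
      rwa [hJ'] at this) (lt_of_le_of_ne (by
        have := cj_mono m⁻¹ hlt.le
        rwa [cj_inv_cj] at this) fun e => hlt.ne (by rw [e, cj_cj_inv]))
    have h5 := cj_mono m h4
    rwa [hX, cj_centralizer, cj_cj_inv] at h5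

variable {D : Dt P n M L Z A} {X H T F : Subgroup G}

theorem Sel.pra (s : Sel D X H T F) (hN : normalizer (BT n : Set G) ≤ X) :
    PrA (BT n) (zl (S : Subgroup G) P) (ZT n) T F X := by
  have hSX : (S : Subgroup G) ≤ X := ((lb n).two_le S.isPGroup' D.BS).trans hN
  exact ⟨fun _ hg => mem_of_cj_B_le n hSX hN hg, s.pair.syl, s.pair.BT, s.TS.trans hSX, s.pair.nM, s.pair.min,
    s.pair.VO, s.pair.fix, s.cen⟩

/-- **CASE I.** -/
theorem phi_univ (s : Sel D X H T F) (hQ : QFam P n X H) (hD : centralizer (ZT n : Set G) ≤ X)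
    (hN : normalizer (BT n : Set G) ≤ X) (hK : 4 ≤ Nat.card K) : ∀ i, i ∈ Phi Z T := by
  have hSX : (S : Subgroup G) ≤ X := ((lb n).two_le S.isPGroup' D.BS).trans hN
  have hZM : normalizer (ZT n : Set G) ≤ X := (lb n).norm_zj_le.trans (sup_le hD hN)
  exact PrA.caseOne D.bg (s.pra hN) D.ln.fr s.TS hK (lam D.ln s.pair)
    (exists_fam D.ln s.pair hQ hD (s.TS.trans hSX) hZM)

end Cfsg.Agent.Omega.OM.SWT

end
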